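import Groth.Agent.Lib.GaGmExt.Dual

/-!
# A criterion for the vanishing of `H^1` of a dual sheaf using the axes
-/

set_option autoImplicit false
set_option maxHeartbeats 800000
set_option backward.isDefEq.respectTransparency.types false

universe u

open CategoryTheory CategoryTheory.Limits AlgebraicGeometry Opposite CategoryTheory.Abelian MonObj
  MonoidalCategory CartesianMonoidalCategory

noncomputable section

namespace Groth.Agent.Lib.DualGm86

open Groth.Agent.Lib.GaGmExt Groth.Agent.Lib.GaGmExt.Shift Groth.Agent.Lib.GaGmExt.Sect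
  Groth.Agent.Lib.GaGmExt.Additive Groth.Agent.Lib.GaGmExt.Dual

variable {X : Scheme.{u}}

theorem fnMap_comp {A A' A'' : Over X} (m : A' ⟶ A) (m' : A'' ⟶ A') (T : Over X) :
    fnMap m' T ≫ fnMap m T = fnMap (m' ≫ m) T := by
  refine (pair_fnMap m (pr₁ A'' T) (pr₂ A'' T ≫ m')).trans ?_
  rw [Category.assoc]
  rfl

variable (G : Over X) [GrpObj G] [IsCommMonObj G] (B : BigSite.Ab Scheme.fppfPrecoverage X)

/-- The deviation from constancy along an axis. -/
def ax (m : G ⟶ G ⊗ G) : (P (G ⊗ G)).obj B ⟶ (P G).obj B := pMap m B - pMap (lift 1 1) B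

theorem ax_apply (m : G ⟶ G ⊗ G) (T : Over X) (w : B.obj.obj (op ((Fn (G ⊗ G)).obj T))) :
    (ax G B m).hom.app (op T) w =
      B.obj.map (fnMap m T).op w - B.obj.map (fnMap (lift 1 1) T).op w := rfl

theorem d_ax₁ : d G B ≫ ax G B (lift (𝟙 G) 1) = 0 := by
  apply Sheaf.hom_ext
  refine NatTrans.ext (funext fun T => AddCommGrpCat.ext fun z => ?_)
  change (ax G B (lift (𝟙 G) 1)).hom.app (op T.unop) ((d G B).hom.app (op T.unop) z) = 0
  rw [ax_apply, d_apply]
  simp only [map_sub, map_add, map_comp_apply', fnMap_comp, lift_fst, lift_snd,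
    MonObj.comp_mul, _root_.mul_one]
  abel

theorem d_ax₂ : d G B ≫ ax G B (lift 1 (𝟙 G)) = 0 := by
  apply Sheaf.hom_ext
  refine NatTrans.ext (funext fun T => AddCommGrpCat.ext fun z => ?_)
  change (ax G B (lift 1 (𝟙 G))).hom.app (op T.unop) ((d G B).hom.app (op T.unop) z) = 0
  rw [ax_apply, d_apply]
  simp only [map_sub, map_add, map_comp_apply', fnMap_comp, lift_fst, lift_snd,
    MonObj.comp_mul, _root_.mul_one, _root_.one_mul]
  abel

/-- `H^1(X, Hom(G, G_m)) = 0` if units on `G × G` constant on both axes are constant. -/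
theorem subsingleton_H1_of_axes
    (hlift : ∀ {S : ShortComplex (BigSite.Ab Scheme.fppfPrecoverage X)} (_ : S.ShortExact)
      (_ : S.X₁ ≅ CGrpSh.pts Scheme.fppfPrecoverage (Red.Gm X)),
      Function.Surjective (S.g.hom.app (op G)))
    (hconst : ∀ w : G ⊗ G ⟶ Red.Gm X, lift (𝟙 G) 1 ≫ w = lift 1 1 ≫ w →
      lift 1 (𝟙 G) ≫ w = lift 1 1 ≫ w → ∃ v : 𝟙_ (Over X) ⟶ Red.Gm X, toUnit _ ≫ v = w) :
    Subsingleton (BigSite.H Scheme.fppfPrecoverage X
      (Dual.H G (CGrpSh.pts Scheme.fppfPrecoverage (Red.Gm X))) 1) := by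
  let B := CGrpSh.pts Scheme.fppfPrecoverage (Red.Gm X)
  let e₁ := ax G B (lift (𝟙 G) 1)
  let e₂ := ax G B (lift 1 (𝟙 G))
  let d₁ := kernel.lift e₁ (d G B) (d_ax₁ G B)
  have hd₁₂ : d₁ ≫ kernel.ι e₁ ≫ e₂ = 0 := by rw [kernel.lift_ι_assoc]; exact (d_ax₂ G B)
  let d₂ := kernel.lift (kernel.ι e₁ ≫ e₂) d₁ hd₁₂
  let ι₂ := kernel.ι (kernel.ι e₁ ≫ e₂) ≫ kernel.ι e₁
  have hd : d₂ ≫ ι₂ = d G B := by rw [kernel.lift_ι_assoc, kernel.lift_ι]
  let S : ShortComplex (BigSite.Ab Scheme.fppfPrecoverage X) :=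
    ShortComplex.mk (kernel.ι (d G B)) d₂ (by
      rw [← cancel_mono ι₂, Category.assoc, hd, kernel.condition, zero_comp])
  let φ : S ⟶ ShortComplex.mk (kernel.ι (d G B)) (d G B) (kernel.condition _) :=
    { τ₁ := 𝟙 _, τ₂ := 𝟙 _, τ₃ := ι₂
      comm₁₂ := by simp [S]
      comm₂₃ := by simp only [S, Category.id_comp]; exact hd.symm }
  have hS : S.Exact := (ShortComplex.exact_iff_of_epi_of_isIso_of_mono φ).2
    (ShortComplex.exact_of_f_is_kernel _ (kernelIsKernel _))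
  have : Mono S.f := inferInstanceAs (Mono (kernel.ι (d G B)))
  have h := subsingleton_ext_of_exact hS (subsingleton_H1_P G B hlift) ?_
  · have := isIso_lift G B
    exact @Function.Injective.subsingleton _ _ _ ((extFunctorObj _ 1).mapIso
      (asIso (kernel.lift (d G B) (χ G B) (χ_d G B)))).addCommGroupIsoToAddEquiv.injective h
  intro w'
  let T₀ : Over X := Over.mk (𝟙 X)
  let w : B.obj.obj (op ((Fn (G ⊗ G)).obj T₀)) := ι₂.hom.app (op T₀) w'
  have hinj : Function.Injective (ι₂.hom.app (op T₀)) :=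
    (AddCommGrpCat.mono_iff_injective _).1 (inferInstanceAs (Mono
      ((sheafToPresheaf (QuotSh.J Scheme.fppfPrecoverage X) AddCommGrpCat.{u + 1} ⋙
        (evaluation (Over X)ᵒᵖ AddCommGrpCat.{u + 1}).obj (op T₀)).map ι₂)))
  have hw₁ : e₁.hom.app (op T₀) w = 0 := by
    refine congr(($(show ι₂ ≫ e₁ = 0 by rw [Category.assoc, kernel.condition, comp_zero])).hom.app
      (op T₀) w')
  have hw₂ : e₂.hom.app (op T₀) w = 0 := by
    refine congr(($(show ι₂ ≫ e₂ = 0 by rw [Category.assoc]; exact kernel.condition _)).hom.app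
      (op T₀) w')
  let a := topIso (X := X) (G ⊗ G)
  let u : G ⊗ G ⟶ Red.Gm X :=
    a.inv ≫ (w : ULift.{u + 1} (Additive ((Fn (G ⊗ G)).obj T₀ ⟶ Red.Gm X))).down.toMul
  have hax : ∀ m m' : G ⟶ G ⊗ G, B.obj.map (fnMap m T₀).op w = B.obj.map (fnMap m' T₀).op w →
      m ≫ u = m' ≫ u := by
    intro m m' hmm
    have h1 : ∀ n : G ⟶ G ⊗ G, n ≫ a.inv = (topIso G).inv ≫ fnMap n T₀ := fun n => by
      rw [Iso.comp_inv_eq, Category.assoc, Iso.eq_inv_comp]
      exact (pair_pr₂ _ _).symm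
    have h2 := congrArg (fun z : ULift.{u + 1} (Additive ((Fn G).obj T₀ ⟶ Red.Gm X)) =>
      (topIso G).inv ≫ z.down.toMul) hmm
    rw [show m ≫ u = (topIso G).inv ≫ fnMap m T₀ ≫ _ by rw [← Category.assoc, h1, Category.assoc],
      show m' ≫ u = (topIso G).inv ≫ fnMap m' T₀ ≫ _ by rw [← Category.assoc, h1, Category.assoc]]
    exact h2
  obtain ⟨v, hv⟩ := hconst u (hax _ _ (sub_eq_zero.1 ((ax_apply G B (lift (𝟙 G) 1) T₀ w).symm.trans hw₁)))
    (hax _ _ (sub_eq_zero.1 ((ax_apply G B (lift 1 (𝟙 G)) T₀ w).symm.trans hw₂)))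
  let b₀ : B.obj.obj (op (𝟙_ (Over X))) := ULift.up (Additive.ofMul v)
  refine ⟨- B.obj.map (toUnit ((Fn G).obj T₀)).op b₀, hinj ?_⟩
  refine (congr(($hd).hom.app (op T₀) _)).trans ?_
  refine (d_apply G B T₀ _).trans ?_
  rw [map_neg, map_neg, map_neg, map_comp_apply', map_comp_apply', map_comp_apply', comp_toUnit,
    comp_toUnit, comp_toUnit]
  have hw : B.obj.map (toUnit ((Fn (G ⊗ G)).obj T₀)).op b₀ = w := by
    apply ULift.ext
    change Additive.ofMul (toUnit _ ≫ v) = _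
    rw [← comp_toUnit a.hom, Category.assoc, hv, Iso.hom_inv_id_assoc]
    rfl
  rw [hw]
  abel

end Groth.Agent.Lib.DualGm86
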