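import Groth.Agent.Lib.DualGm86.Axes
import Groth.Agent.Lib.GaGmExt.Tower
import Groth.Agent.Lib.TorusUnits.Basic
import Mathlib.Algebra.Polynomial.Laurent

/-!
# Units on `G_m × G_m` and `H^1` of the dual of `G_m` over a field
-/

set_option autoImplicit false
set_option maxHeartbeats 800000
set_option backward.isDefEq.respectTransparency.types false

universe u

open CategoryTheory CategoryTheory.Limits AlgebraicGeometry Opposite CategoryTheory.Abelian MonObj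
  MonoidalCategory CartesianMonoidalCategory

noncomputable section

namespace Groth.Agent.Lib.DualGm86

open Groth.Agent.Lib.RedPts Groth.Agent.Lib.GaGmExt Groth.Agent.Lib.GaGmExt.Shift
  Groth.Agent.Lib.GaGmExt.Sect Groth.Agent.Lib.GaGmExt.Additive Groth.Agent.Lib.TorusUnits.Basic

variable {k : Type u} [Field k] {M : Type} [AddCommGroup M]

local notation "𝕏" => Spec (CommRingCat.of k)

/-- Constant functions. -/
def cst (Z : Over 𝕏) : k →+* Γ(Z.left, ⊤) := (gam Z.hom).hom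

theorem cst_natural {W Z : Over 𝕏} (h : W ⟶ Z) (c : k) : h.left.appTop (cst Z c) = cst W c := by
  have := congr($(gam_comp h.left Z.hom) c)
  rw [Over.w h] at this
  exact this.symm

/-- `Spec k[M]`. -/
def tor (k : Type u) [Field k] (M : Type) [AddCommGroup M] : Over (Spec (CommRingCat.of k)) :=
  Over.mk (Y := Spec (CommRingCat.of (AddMonoidAlgebra k M)))
    (Spec.map (CommRingCat.ofHom AddMonoidAlgebra.singleZeroRingHom))

/-- Monomials. -/
def mono' (k : Type u) [Field k] (M : Type) [AddCommGroup M] :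
    Multiplicative M →* Γ((tor k M).left, ⊤)ˣ :=
  ((Scheme.ΓSpecIso (CommRingCat.of (AddMonoidAlgebra k M))).inv.hom.toMonoidHom.comp
    (AddMonoidAlgebra.of k M)).toHomUnits

theorem mono'_val (m : M) : (mono' k M (Multiplicative.ofAdd m) : Γ((tor k M).left, ⊤)) =
    (Scheme.ΓSpecIso (CommRingCat.of (AddMonoidAlgebra k M))).inv (AddMonoidAlgebra.single m 1) := rfl

theorem cst_tor (c : k) : cst (tor k M) c =
    (Scheme.ΓSpecIso (CommRingCat.of (AddMonoidAlgebra k M))).inv (AddMonoidAlgebra.single 0 c) := by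
  change gam (Spec.map (CommRingCat.ofHom (AddMonoidAlgebra.singleZeroRingHom (R := k) (M := M)))) c = _
  rw [gam_SpecMap]
  rfl

/-- The map to `Spec k[M]` given by a character. -/
def toTor {W : Over 𝕏} (χ : Multiplicative M →* Γ(W.left, ⊤)ˣ) : W ⟶ tor k M :=
  Over.homMk (W.left.toSpecΓ ≫ Spec.map (CommRingCat.ofHom (R := AddMonoidAlgebra k M)
    (AddMonoidAlgebra.liftNCRingHom (cst W) ((Units.coeHom _).comp χ) fun _ _ => mul_comm _ _)))
    (by
      apply gam_injective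
      change gam ((_ ≫ Spec.map _) ≫ Spec.map _) = _
      rw [gam_comp_SpecMap, gam_toSpec]
      ext c
      change AddMonoidAlgebra.liftNC _ _ (AddMonoidAlgebra.single 0 c) = cst W c
      simp)

theorem toTor_appTop {W : Over 𝕏} (χ : Multiplicative M →* Γ(W.left, ⊤)ˣ) (m : M) (c : k) :
    (toTor χ).left.appTop ((Scheme.ΓSpecIso (CommRingCat.of (AddMonoidAlgebra k M))).inv
      (AddMonoidAlgebra.single m c)) = cst W c * (χ (Multiplicative.ofAdd m) : Γ(W.left, ⊤)) := by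
  have h := congr($(gam_toSpec (CommRingCat.ofHom (R := AddMonoidAlgebra k M)
    (AddMonoidAlgebra.liftNCRingHom (cst W) ((Units.coeHom _).comp χ) fun _ _ => mul_comm _ _)))
      (AddMonoidAlgebra.single m c))
  refine Eq.trans h ?_
  exact AddMonoidAlgebra.liftNC_single (cst W).toAddMonoidHom ((Units.coeHom _).comp χ) m c

/-- Maps into `Spec k[M]` are determined on monomials. -/
theorem toTor_ext {W : Over 𝕏} {f g : W ⟶ tor k M} (hm : ∀ m : M,
    f.left.appTop (mono' k M (Multiplicative.ofAdd m) : Γ((tor k M).left, ⊤)) =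
      g.left.appTop (mono' k M (Multiplicative.ofAdd m) : Γ((tor k M).left, ⊤))) : f = g := by
  apply Over.OverMorphism.ext
  refine gam_injective (R := CommRingCat.of (AddMonoidAlgebra k M)) ?_
  apply CommRingCat.hom_ext
  refine AddMonoidAlgebra.ringHom_ext (fun c => ?_) fun m => hm m
  have h1 := cst_natural f c
  have h2 := cst_natural g c
  rw [cst_tor] at h1 h2
  exact h1.trans h2.symm

/-- Units on `G_m × G_m` are monomials. -/
theorem exists_monomial (u : Red.Gm 𝕏 ⊗ Red.Gm 𝕏 ⟶ Red.Gm 𝕏) :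
    ∃ (c : k) (a b : ℤ), c ≠ 0 ∧ Red.gmFn u = cst _ c *
      (((Gm.isUnit_gmFn (fst (Red.Gm 𝕏) (Red.Gm 𝕏))).unit ^ a *
        (Gm.isUnit_gmFn (snd (Red.Gm 𝕏) (Red.Gm 𝕏))).unit ^ b :
          Γ((Red.Gm 𝕏 ⊗ Red.Gm 𝕏).left, ⊤)ˣ) : Γ((Red.Gm 𝕏 ⊗ Red.Gm 𝕏).left, ⊤)) := by
  let x := (Gm.isUnit_gmFn (fst (Red.Gm 𝕏) (Red.Gm 𝕏))).unit
  let y := (Gm.isUnit_gmFn (snd (Red.Gm 𝕏) (Red.Gm 𝕏))).unit
  let χ : Multiplicative (ℤ × ℤ) →* Γ((Red.Gm 𝕏 ⊗ Red.Gm 𝕏).left, ⊤)ˣ :=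
    MonoidHom.mk' (fun p => x ^ p.toAdd.1 * y ^ p.toAdd.2) fun p q => by
      simp only [toAdd_mul, Prod.fst_add, Prod.snd_add, zpow_add]
      rw [_root_.mul_mul_mul_comm]
  let g : tor k (ℤ × ℤ) ⟶ Red.Gm 𝕏 ⊗ Red.Gm 𝕏 :=
    lift (Gm.gmPt (mono' k _ (Multiplicative.ofAdd ((1, 0) : ℤ × ℤ))))
      (Gm.gmPt (mono' k _ (Multiplicative.ofAdd ((0, 1) : ℤ × ℤ))))
  have heg : toTor χ ≫ g = 𝟙 _ := by
    apply CartesianMonoidalCategory.hom_ext
    · rw [Category.id_comp, Category.assoc, lift_fst]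
      apply Gm.gmFn_injective
      rw [Gm.gmFn_comp, Gm.gmFn_gmPt, mono'_val, toTor_appTop]
      simp [χ, x]
    · rw [Category.id_comp, Category.assoc, lift_snd]
      apply Gm.gmFn_injective
      rw [Gm.gmFn_comp, Gm.gmFn_gmPt, mono'_val, toTor_appTop]
      simp [χ, y]
  obtain ⟨⟨a, b⟩, c, hc⟩ := exists_eq_single_of_isUnit
    ((Gm.isUnit_gmFn (g ≫ u)).map (Scheme.ΓSpecIso (CommRingCat.of
      (AddMonoidAlgebra k (ℤ × ℤ)))).hom.hom)
  refine ⟨c, a, b, fun h0 => ?_, ?_⟩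
  · have h := ((Gm.isUnit_gmFn (g ≫ u)).map (Scheme.ΓSpecIso (CommRingCat.of
      (AddMonoidAlgebra k (ℤ × ℤ)))).hom.hom).ne_zero
    exact h (hc.trans (by rw [h0, AddMonoidAlgebra.single_zero]))
  have hgu : Red.gmFn (g ≫ u) = (Scheme.ΓSpecIso (CommRingCat.of
      (AddMonoidAlgebra k (ℤ × ℤ)))).inv (AddMonoidAlgebra.single (a, b) c) := by
    rw [← hc]
    exact (congr($((Scheme.ΓSpecIso (CommRingCat.of
      (AddMonoidAlgebra k (ℤ × ℤ)))).hom_inv_id) (Red.gmFn (g ≫ u)))).symm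
  have hu : Red.gmFn u = (toTor χ).left.appTop (Red.gmFn (g ≫ u)) := by
    rw [← Gm.gmFn_comp, ← Category.assoc, heg, Category.id_comp]
  rw [hu, hgu, toTor_appTop]
  rfl

theorem units_map_zpow {A B : CommRingCat.{u}} (φ : A ⟶ B) (x : Aˣ) (z : Bˣ)
    (h : φ (x : A) = (z : B)) (a : ℤ) : φ ((x ^ a : Aˣ) : A) = ((z ^ a : Bˣ) : B) := by
  have : Units.map φ.hom.toMonoidHom x = z := Units.ext h
  rw [← this, ← map_zpow]
  rfl

/-- A bicharacter-defect which is constant on the axes is constant. -/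
theorem const_of_axes (u : Red.Gm 𝕏 ⊗ Red.Gm 𝕏 ⟶ Red.Gm 𝕏)
    (h₁ : lift (𝟙 (Red.Gm 𝕏)) 1 ≫ u = lift 1 1 ≫ u)
    (h₂ : lift 1 (𝟙 (Red.Gm 𝕏)) ≫ u = lift 1 1 ≫ u) :
    ∃ v : 𝟙_ (Over 𝕏) ⟶ Red.Gm 𝕏, toUnit _ ≫ v = u := by
  obtain ⟨c, a, b, hc0, hu⟩ := exists_monomial u
  let τ := mono' k ℤ (Multiplicative.ofAdd (1 : ℤ))
  let p : tor k ℤ ⟶ Red.Gm 𝕏 := Gm.gmPt τ
  have ev : ∀ (q q' : tor k ℤ ⟶ Red.Gm 𝕏) (z z' : Γ((tor k ℤ).left, ⊤)ˣ),
      Red.gmFn q = z → Red.gmFn q' = z' → Red.gmFn (lift q q' ≫ u) =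
      cst (tor k ℤ) c * ((z ^ a : Γ((tor k ℤ).left, ⊤)ˣ) * (z' ^ b : Γ((tor k ℤ).left, ⊤)ˣ)) := by
    intro q q' z z' hz hz'
    rw [Gm.gmFn_comp, hu, Units.val_mul, map_mul, map_mul, cst_natural,
      units_map_zpow _ _ z ?_ a, units_map_zpow _ _ z' ?_ b]
    · rw [IsUnit.unit_spec, ← Gm.gmFn_comp, lift_snd, hz']
    · rw [IsUnit.unit_spec, ← Gm.gmFn_comp, lift_fst, hz]
  have hconst : Red.gmFn (lift (1 : tor k ℤ ⟶ Red.Gm 𝕏) 1 ≫ u) = cst (tor k ℤ) c := by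
    rw [ev 1 1 1 1 (by rw [Gm.gmFn_one]; rfl) (by rw [Gm.gmFn_one]; rfl)]
    simp
  have hexp : ∀ n : ℤ, cst (tor k ℤ) c * ((τ ^ n : Γ((tor k ℤ).left, ⊤)ˣ) : Γ((tor k ℤ).left, ⊤)) =
      cst (tor k ℤ) c → n = 0 := by
    intro n hn
    have hp : ((τ ^ n : Γ((tor k ℤ).left, ⊤)ˣ) : Γ((tor k ℤ).left, ⊤)) =
        (Scheme.ΓSpecIso (CommRingCat.of (AddMonoidAlgebra k ℤ))).inv
          (AddMonoidAlgebra.single n 1) := by
      rw [← map_zpow, ← ofAdd_zsmul, mono'_val]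
      simp
    rw [hp, cst_tor] at hn
    replace hn := (map_mul (Scheme.ΓSpecIso (CommRingCat.of (AddMonoidAlgebra k ℤ))).inv.hom
      (AddMonoidAlgebra.single 0 c) (AddMonoidAlgebra.single n 1)).trans hn
    rw [AddMonoidAlgebra.single_mul_single] at hn
    have := (Scheme.ΓSpecIso (CommRingCat.of (AddMonoidAlgebra k ℤ))).commRingCatIsoToRingEquiv.symm.injective hn
    have h2 := congrArg AddMonoidAlgebra.coeff this
    rw [AddMonoidAlgebra.coeff_single, AddMonoidAlgebra.coeff_single,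
      Finsupp.single_eq_single_iff, zero_add, _root_.mul_one] at h2
    exact h2.elim (fun h => h.1) fun h => absurd h.1 hc0
  have ha : a = 0 := hexp a <| by
    have h := congrArg (fun q => Red.gmFn (p ≫ q)) h₁
    simp only [← Category.assoc, comp_lift, Category.comp_id, MonObj.comp_one] at h
    rw [hconst, ev p 1 τ 1 (Gm.gmFn_gmPt _) (by rw [Gm.gmFn_one]; rfl)] at h
    simpa using h
  have hb : b = 0 := hexp b <| by
    have h := congrArg (fun q => Red.gmFn (p ≫ q)) h₂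
    simp only [← Category.assoc, comp_lift, Category.comp_id, MonObj.comp_one] at h
    rw [hconst, ev 1 p 1 τ (by rw [Gm.gmFn_one]; rfl) (Gm.gmFn_gmPt _)] at h
    simpa using h
  refine ⟨Gm.gmPt (X := 𝟙_ (Over 𝕏)) ((Ne.isUnit hc0).map (cst (𝟙_ (Over 𝕏)))).unit,
    Gm.gmFn_injective ?_⟩
  rw [Gm.gmFn_comp, Gm.gmFn_gmPt, hu, ha, hb, IsUnit.unit_spec, cst_natural]
  simp

/-- `G_m` over a field is the spectrum of Laurent polynomials. -/
def gmTorIso : Red.Gm 𝕏 ≅ tor k ℤ where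
  hom := toTor (zpowersHom _ (Gm.isUnit_gmFn (𝟙 (Red.Gm (Spec (CommRingCat.of k))))).unit)
  inv := Gm.gmPt (mono' k ℤ (Multiplicative.ofAdd (1 : ℤ)))
  hom_inv_id := by
    apply Gm.gmFn_injective
    rw [Gm.gmFn_comp, Gm.gmFn_gmPt, mono'_val, toTor_appTop]
    simp
  inv_hom_id := by
    refine toTor_ext fun m => ?_
    rw [Over.comp_left, Scheme.Hom.comp_appTop, CommRingCat.comp_apply, mono'_val, toTor_appTop,
      map_mul, cst_natural, zpowersHom_apply, toAdd_ofAdd,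
      units_map_zpow _ _ (mono' k ℤ (Multiplicative.ofAdd (1 : ℤ))) ?_ m]
    · rw [← map_zpow, ← ofAdd_zsmul]
      simp [mono'_val]
    · rw [IsUnit.unit_spec, ← Gm.gmFn_comp, Category.comp_id, Gm.gmFn_gmPt]

/-- Invertible modules on `G_m` over a field are trivial. -/
theorem pic_Gm (L : (Red.Gm 𝕏).left.Modules) (hL : PicF.IsInvertible L) :
    Nonempty (L ≅ Coh.structureModule (Red.Gm 𝕏).left) := by
  let j : Spec (CommRingCat.of (LaurentPolynomial k)) ⟶ Spec (CommRingCat.of (Polynomial k)) :=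
    Spec.map (CommRingCat.ofHom (algebraMap (Polynomial k) (LaurentPolynomial k)))
  haveI : IsOpenImmersion j :=
    IsOpenImmersion.of_isLocalization (S := LaurentPolynomial k) (Polynomial.X : Polynomial k)
  let θ : (Red.Gm 𝕏).left ≅ (j.opensRange : Scheme.{u}) :=
    (Over.forget _).mapIso (gmTorIso (k := k)) ≪≫ j.isoOpensRange
  obtain ⟨e⟩ := PicGen.OpenUFD.nonempty_iso j.opensRange
    ((Scheme.Modules.pullback θ.inv).obj L) (PicLoc.isInvertible_pullback θ.inv hL)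
  exact ⟨((Scheme.Modules.pullbackId _).app L).symm ≪≫
    ((Scheme.Modules.pullbackCongr θ.hom_inv_id).app L).symm ≪≫
    ((Scheme.Modules.pullbackComp θ.hom θ.inv).app L).symm ≪≫
    (Scheme.Modules.pullback θ.hom).mapIso e ≪≫ PicLoc.pullbackStructureIso θ.hom⟩

variable (k) in
/-- `H^1(k, Hom(G_m, G_m)) = 0`. -/
theorem subsingleton_H1_dual_Gm :
    Subsingleton (BigSite.H Scheme.fppfPrecoverage 𝕏
      (Dual.H (Red.Gm 𝕏) (CGrpSh.pts Scheme.fppfPrecoverage (Red.Gm 𝕏))) 1) :=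
  subsingleton_H1_of_axes (Red.Gm 𝕏) (fun hS e => surjective_of_pic hS e (Red.Gm 𝕏) pic_Gm)
    const_of_axes

end Groth.Agent.Lib.DualGm86
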