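import Groth.Agent.Lib.DualGm86.Axes
import Groth.Agent.Lib.FppfEt.Split
import Groth.Agent.Lib.NormDual86.Sheaf

/-!
# Vanishing of `H^1` over an object of the big site
-/

set_option autoImplicit false
set_option maxHeartbeats 800000
set_option backward.isDefEq.respectTransparency.types false

universe u

open CategoryTheory CategoryTheory.Limits AlgebraicGeometry Opposite CategoryTheory.Abelian MonObj
  MonoidalCategory CartesianMonoidalCategory

noncomputable section

namespace Groth.Agent.Lib.DualGm86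

open Groth.Agent.Lib.GaGmExt Groth.Agent.Lib.GaGmExt.Shift Groth.Agent.Lib.GaGmExt.Sect
  Groth.Agent.Lib.GaGmExt.Additive Groth.Agent.Lib.GaGmExt.Dual

variable {X : Scheme.{u}}

/-- The top of the localized site. -/
def topMap (T : Over X) : (Over.map T.hom).obj (Over.mk (𝟙 T.left)) ≅ T :=
  Over.isoMk (Iso.refl T.left) ((Category.id_comp _).trans (Category.id_comp _).symm)

/-- If `H^1(T, S₁) = 0` then sections over `T` lift. -/
theorem surjective_of_HU {S : ShortComplex (BigSite.Ab Scheme.fppfPrecoverage X)}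
    (hS : S.ShortExact) (T : Over X)
    (h : Subsingleton (BigSite.HU Scheme.fppfPrecoverage S.X₁ 1 T)) :
    Function.Surjective (S.g.hom.app (op T)) := by
  let P' := BigSite.pullBig Scheme.fppfPrecoverage T.hom AddCommGrpCat.{u + 1}
  intro q
  obtain ⟨i, hi⟩ := surjective_top (hS.map_of_exact P') h (S.X₃.obj.map (topMap T).hom.op q)
  refine ⟨S.X₂.obj.map (topMap T).inv.op i, ?_⟩
  rw [NatTrans.naturality_apply]
  refine (congrArg (S.X₃.obj.map (topMap T).inv.op) hi).trans ?_
  rw [← ConcreteCategory.comp_apply, ← Functor.map_comp, ← op_comp, Iso.inv_hom_id, op_id,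
    CategoryTheory.Functor.map_id]
  rfl

/-- The left exact criterion over an object. -/
theorem HU_of_exact {S : ShortComplex (BigSite.Ab Scheme.fppfPrecoverage X)} (hS : S.Exact)
    [Mono S.f] (T : Over X) (h₂ : Subsingleton (BigSite.HU Scheme.fppfPrecoverage S.X₂ 1 T))
    (hsurj : Function.Surjective (S.g.hom.app (op T))) :
    Subsingleton (BigSite.HU Scheme.fppfPrecoverage S.X₁ 1 T) := by
  let P' := BigSite.pullBig Scheme.fppfPrecoverage T.hom AddCommGrpCat.{u + 1}
  have : Mono (S.map P').f := inferInstanceAs (Mono (P'.map S.f))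
  refine subsingleton_ext_of_exact (S := S.map P')
    (hS.map_of_mono_of_preservesKernel P' inferInstance inferInstance) h₂ fun q => ?_
  obtain ⟨i, hi⟩ := hsurj (S.X₃.obj.map (topMap T).inv.op q)
  refine ⟨S.X₂.obj.map (topMap T).hom.op i, ?_⟩
  change S.g.hom.app (op ((Over.map T.hom).obj (Over.mk (𝟙 T.left)))) _ = q
  rw [NatTrans.naturality_apply]
  refine (congrArg (S.X₃.obj.map (topMap T).hom.op) hi).trans ?_
  rw [← ConcreteCategory.comp_apply, ← Functor.map_comp, ← op_comp, Iso.hom_inv_id, op_id,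
    CategoryTheory.Functor.map_id]
  rfl

/-- The sequence of an embedding into an injective. -/
def injSeq (F : BigSite.Ab Scheme.fppfPrecoverage X) :
    ShortComplex (BigSite.Ab Scheme.fppfPrecoverage X) :=
  ShortComplex.mk (Injective.ι F) (cokernel.π (Injective.ι F)) (cokernel.condition _)

theorem injSeq_shortExact (F : BigSite.Ab Scheme.fppfPrecoverage X) : (injSeq F).ShortExact :=
  { exact := ShortComplex.exact_of_g_is_cokernel _ (cokernelIsCokernel _)
    mono_f := inferInstanceAs (Mono (Injective.ι F))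
    epi_g := inferInstanceAs (Epi (cokernel.π (Injective.ι F))) }

theorem HU_of_injective (I : BigSite.Ab Scheme.fppfPrecoverage X) [Injective I] (T : Over X) :
    Subsingleton (BigSite.HU Scheme.fppfPrecoverage I 1 T) := by
  have : Injective ((BigSite.pullBig Scheme.fppfPrecoverage T.hom AddCommGrpCat.{u + 1}).obj I) :=
    Functor.injective_obj _ _
  exact subsingleton_of_forall_eq 0 fun x => Ext.eq_zero_of_injective x

/-- `H^1` of a direct image over an object. -/
theorem HU_push {X' : Scheme.{u}} (f : X' ⟶ X) (F : BigSite.Ab Scheme.fppfPrecoverage X')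
    (T : Over X)
    (h : Subsingleton (BigSite.HU Scheme.fppfPrecoverage F 1 ((Over.pullback f).obj T))) :
    Subsingleton (BigSite.HU Scheme.fppfPrecoverage
      ((BigSite.pushBig Scheme.fppfPrecoverage f AddCommGrpCat.{u + 1}).obj F) 1 T) := by
  let P := BigSite.pushBig Scheme.fppfPrecoverage f AddCommGrpCat.{u + 1}
  have : PreservesLimitsOfSize.{0, 0} P :=
    (BigSite.bigAdj Scheme.fppfPrecoverage f AddCommGrpCat.{u + 1}).rightAdjoint_preservesLimits
  have : PreservesFiniteLimits P := PreservesLimitsOfSize.preservesFiniteLimits _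
  have hS := injSeq_shortExact F
  have : Mono (injSeq F).f := hS.mono_f
  have : Injective ((injSeq F).map P).X₂ :=
    Injective.injective_of_adjoint (BigSite.bigAdj Scheme.fppfPrecoverage f AddCommGrpCat.{u + 1})
      (Injective.under F)
  have : Mono ((injSeq F).map P).f := inferInstanceAs (Mono (P.map (injSeq F).f))
  exact HU_of_exact (hS.exact.map_of_mono_of_preservesKernel P inferInstance inferInstance) T
    (HU_of_injective _ T) (surjective_of_HU hS _ h)

/-- `H^1(T, P_A B) = 0` if sections over `T × A` lift along quotients by `B`. -/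
theorem HU_P (A : Over X) (B : BigSite.Ab Scheme.fppfPrecoverage X) (T : Over X)
    (h : Subsingleton (BigSite.HU Scheme.fppfPrecoverage B 1 ((Fn A).obj T))) :
    Subsingleton (BigSite.HU Scheme.fppfPrecoverage ((P A).obj B) 1 T) := by
  have : PreservesLimitsOfSize.{0, 0}
      (BigSite.pushBig Scheme.fppfPrecoverage A.hom AddCommGrpCat.{u + 1}) :=
    (BigSite.bigAdj Scheme.fppfPrecoverage A.hom AddCommGrpCat.{u + 1}).rightAdjoint_preservesLimits
  have : PreservesFiniteLimits
      (BigSite.pushBig Scheme.fppfPrecoverage A.hom AddCommGrpCat.{u + 1}) :=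
    PreservesLimitsOfSize.preservesFiniteLimits _
  have : PreservesFiniteLimits (P A) := comp_preservesFiniteLimits _ _
  have hS := injSeq_shortExact B
  have : Mono (injSeq B).f := hS.mono_f
  have : Injective ((BigSite.pullBig Scheme.fppfPrecoverage A.hom AddCommGrpCat.{u + 1}).obj
      (Injective.under B)) := Functor.injective_obj _ _
  have : Injective ((injSeq B).map (P A)).X₂ :=
    Injective.injective_of_adjoint (BigSite.bigAdj Scheme.fppfPrecoverage A.hom AddCommGrpCat.{u + 1})
      ((BigSite.pullBig Scheme.fppfPrecoverage A.hom AddCommGrpCat.{u + 1}).obj (Injective.under B))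
  have : Mono ((injSeq B).map (P A)).f := inferInstanceAs (Mono ((P A).map (injSeq B).f))
  exact HU_of_exact (hS.exact.map_of_mono_of_preservesKernel (P A) inferInstance inferInstance) T
    (HU_of_injective _ T) (surjective_of_HU hS _ h)

/-- `H^1` vanishes over an object covered by disjoint opens over which it vanishes. -/
theorem HU_of_cover (F : BigSite.Ab Scheme.fppfPrecoverage X) {T : Over X} {n : ℕ}
    (Z : Fin n → Over X) (o : ∀ j, Z j ⟶ T) (ho : ∀ j, IsOpenImmersion (o j).left)
    (hcov : ∀ x, ∃ (j : Fin n) (d : (Z j).left), (o j).left.base d = x)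
    (hdisj : ∀ (j k : Fin n) (d : (Z j).left) (d' : (Z k).left),
      (o j).left.base d = (o k).left.base d' → j = k)
    (h : ∀ j, Subsingleton (BigSite.HU Scheme.fppfPrecoverage F 1 (Z j))) :
    Subsingleton (BigSite.HU Scheme.fppfPrecoverage F 1 T) := by
  have hS := injSeq_shortExact F
  have : Mono (injSeq F).f := hS.mono_f
  refine HU_of_exact hS.exact T (HU_of_injective (Injective.under F) T) fun q => ?_
  choose i hi using fun j => surjective_of_HU hS (Z j) (h j) ((injSeq F).X₃.obj.map (o j).op q)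
  obtain ⟨s, hs⟩ := FppfEt.Split.exists_glue Scheme.fppfPrecoverage
    BigSite.etalePrecoverage_le_fppfPrecoverage (injSeq F).X₂ Z o ho hcov hdisj i
  refine ⟨s, ?_⟩
  refine NormDual86.sec_ext (injSeq F).X₃ (fun j : ULift.{u + 1} (Fin n) => Z j.down)
    (fun j => o j.down) (fun j => by have := ho j.down; infer_instance)
    (fun j => by have := ho j.down; infer_instance)
    (fun y => by obtain ⟨j, d', hd⟩ := hcov y; exact ⟨⟨j⟩, d', hd⟩) fun j => ?_
  rw [← NatTrans.naturality_apply, hs, hi]

variable (G : Over X) [GrpObj G] [IsCommMonObj G]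

/-- `H^1(T, Hom(G, G_m)) = 0` if units on `T × G × G` constant on both axes come from `T`. -/
theorem HU_dual_of_axes (T : Over X)
    (hlift : Subsingleton (BigSite.HU Scheme.fppfPrecoverage
      (CGrpSh.pts Scheme.fppfPrecoverage (Red.Gm X)) 1 ((Fn G).obj T)))
    (hconst : ∀ w : (Fn (G ⊗ G)).obj T ⟶ Red.Gm X,
      fnMap (lift (𝟙 G) 1) T ≫ w = fnMap (lift 1 1) T ≫ w →
      fnMap (lift 1 (𝟙 G)) T ≫ w = fnMap (lift 1 1) T ≫ w →
      ∃ v : T ⟶ Red.Gm X, pr₁ (G ⊗ G) T ≫ v = w) :
    Subsingleton (BigSite.HU Scheme.fppfPrecoverage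
      (Dual.H G (CGrpSh.pts Scheme.fppfPrecoverage (Red.Gm X))) 1 T) := by
  let B := CGrpSh.pts Scheme.fppfPrecoverage (Red.Gm X)
  let e₁ := ax G B (lift (𝟙 G) 1)
  let e₂ := ax G B (lift 1 (𝟙 G))
  let d₁ := kernel.lift e₁ (d G B) (d_ax₁ G B)
  have hd₁₂ : d₁ ≫ kernel.ι e₁ ≫ e₂ = 0 := by rw [kernel.lift_ι_assoc]; exact (d_ax₂ G B)
  let d₂ := kernel.lift (kernel.ι e₁ ≫ e₂) d₁ hd₁₂
  let ι₂ := kernel.ι (kernel.ι e₁ ≫ e₂) ≫ kernel.ι e₁
  have hd : d₂ ≫ ι₂ = d G B := by rw [kernel.lift_ι_assoc, kernel.lift_ι]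
  let S : ShortComplex (BigSite.Ab Scheme.fppfPrecoverage X) :=
    ShortComplex.mk (kernel.ι (d G B)) d₂ (by
      rw [← cancel_mono ι₂, Category.assoc, hd, kernel.condition, zero_comp])
  let φ : S ⟶ ShortComplex.mk (kernel.ι (d G B)) (d G B) (kernel.condition _) :=
    { τ₁ := 𝟙 _, τ₂ := 𝟙 _, τ₃ := ι₂
      comm₁₂ := by simp [S]
      comm₂₃ := by simp only [S, Category.id_comp]; exact hd.symm }
  have hS : S.Exact := (ShortComplex.exact_iff_of_epi_of_isIso_of_mono φ).2
    (ShortComplex.exact_of_f_is_kernel _ (kernelIsKernel _))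
  have : Mono S.f := inferInstanceAs (Mono (kernel.ι (d G B)))
  have h := HU_of_exact hS T (HU_P G B T hlift) ?_
  · have := isIso_lift G B
    exact @Function.Injective.subsingleton _ _ _ ((extFunctorObj _ 1).mapIso
      ((BigSite.pullBig Scheme.fppfPrecoverage T.hom AddCommGrpCat.{u + 1}).mapIso
        (asIso (kernel.lift (d G B) (χ G B) (χ_d G B))))).addCommGroupIsoToAddEquiv.injective h
  intro w'
  let w : B.obj.obj (op ((Fn (G ⊗ G)).obj T)) := ι₂.hom.app (op T) w'
  have hinj : Function.Injective (ι₂.hom.app (op T)) :=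
    (AddCommGrpCat.mono_iff_injective _).1 (inferInstanceAs (Mono
      ((sheafToPresheaf (QuotSh.J Scheme.fppfPrecoverage X) AddCommGrpCat.{u + 1} ⋙
        (evaluation (Over X)ᵒᵖ AddCommGrpCat.{u + 1}).obj (op T)).map ι₂)))
  have hw₁ : e₁.hom.app (op T) w = 0 := by
    refine congr(($(show ι₂ ≫ e₁ = 0 by rw [Category.assoc, kernel.condition, comp_zero])).hom.app
      (op T) w')
  have hw₂ : e₂.hom.app (op T) w = 0 := by
    refine congr(($(show ι₂ ≫ e₂ = 0 by rw [Category.assoc]; exact kernel.condition _)).hom.app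
      (op T) w')
  obtain ⟨v, hv⟩ := hconst (w : ULift.{u + 1} (Additive ((Fn (G ⊗ G)).obj T ⟶ Red.Gm X))).down.toMul
    (congrArg (fun z : ULift.{u + 1} (Additive ((Fn G).obj T ⟶ Red.Gm X)) => z.down.toMul)
      (sub_eq_zero.1 ((ax_apply G B (lift (𝟙 G) 1) T w).symm.trans hw₁)))
    (congrArg (fun z : ULift.{u + 1} (Additive ((Fn G).obj T ⟶ Red.Gm X)) => z.down.toMul)
      (sub_eq_zero.1 ((ax_apply G B (lift 1 (𝟙 G)) T w).symm.trans hw₂)))
  let b₀ : B.obj.obj (op T) := ULift.up (Additive.ofMul v)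
  refine ⟨- B.obj.map (pr₁ G T).op b₀, hinj ?_⟩
  refine (congr(($hd).hom.app (op T) _)).trans ?_
  refine (d_apply G B T _).trans ?_
  have hm : ∀ m : G ⊗ G ⟶ G, fnMap m T ≫ pr₁ G T = pr₁ (G ⊗ G) T := fun m => pair_pr₁ _ _
  rw [map_neg, map_neg, map_neg, map_comp_apply', map_comp_apply', map_comp_apply', hm, hm, hm]
  have hw : B.obj.map (pr₁ (G ⊗ G) T).op b₀ = w := by
    apply ULift.ext
    exact congrArg Additive.ofMul hv
  rw [hw]
  abel

end Groth.Agent.Lib.DualGm86
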