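import Groth.Agent.Lib.Purity.Local
import Mathlib.RingTheory.DedekindDomain.PID
import Mathlib.RingTheory.Ideal.GoingUp
import Mathlib.RingTheory.KrullDimension.PID
import Mathlib.RingTheory.LocalProperties.IntegrallyClosed
import Mathlib.RingTheory.LocalProperties.Reduced

/-!
# Finite étale algebras over a discrete valuation ring
-/

set_option autoImplicit false
set_option maxHeartbeats 800000

universe u

namespace Groth.Agent.Lib.DualGm86

/-- A finite étale algebra over a discrete valuation ring is a product of principal ideal domains. -/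
theorem exists_pi_pid (R A : Type u) [CommRing R] [IsDomain R] [IsDiscreteValuationRing R] [CommRing A]
    [Algebra R A] [Module.Finite R A] [Algebra.Etale R A] :
    ∃ (ι : Type u) (_ : Finite ι) (D : ι → Type u) (_ : ∀ i, CommRing (D i))
    (_ : ∀ i, IsDomain (D i)) (_ : ∀ i, IsPrincipalIdealRing (D i)),
    Nonempty (A ≃+* ∀ i, D i) := by
  classical
  haveI : Algebra.IsIntegral R A := Algebra.IsIntegral.of_finite R A
  haveI : IsNoetherianRing A := Algebra.FiniteType.isNoetherianRing R A
  have hloc : ∀ (M : Ideal A) [M.IsPrime],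
      IsDomain (Localization.AtPrime M) ∧ IsIntegrallyClosed (Localization.AtPrime M) := fun M _ =>
    Purity.Local.normal_of_etale R A (M.under R) M
      ⟨IsLocalization.isDomain_localization (Ideal.primeCompl_le_nonZeroDivisors _),
        isIntegrallyClosed_of_isLocalization _ (M.under R).primeCompl
          (Ideal.primeCompl_le_nonZeroDivisors _)⟩
  haveI : IsReduced A := isReduced_ofLocalizationMaximal A fun M hM =>
    haveI := (hloc M).1
    inferInstance
  have hdim : ∀ P : Ideal A, P.IsPrime → P ∈ minimalPrimes A ∨ P.IsMaximal := by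
    intro P hP
    by_cases hu : P.under R = ⊥
    · refine Or.inl ?_
      rw [minimalPrimes_eq_minimals]
      refine ⟨hP, fun Q hQ hle => ?_⟩
      by_contra hne
      haveI : Q.IsPrime := hQ
      have h := Ideal.IsIntegral.comap_lt_comap (R := R) (lt_of_le_not_ge hle hne)
      rw [show P.comap (algebraMap R A) = ⊥ from hu] at h
      exact not_lt_bot h
    · exact Or.inr (Ideal.isMaximal_of_isIntegral_of_isMaximal_comap (R := R) P
        ((IsPrime.to_maximal_ideal hu) : (P.under R).IsMaximal))
  have hker : ∀ p ∈ minimalPrimes A, ∀ M : Ideal A, ∀ _ : M.IsPrime, p ≤ M →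
      p = RingHom.ker (algebraMap A (Localization.AtPrime M)) := by
    intro p hp M hM hle
    haveI := (hloc M).1
    haveI hpp : p.IsPrime := hp.1.1
    have hsub : RingHom.ker (algebraMap A (Localization.AtPrime M)) ≤ p := by
      intro a ha
      obtain ⟨m, hm⟩ := (IsLocalization.map_eq_zero_iff M.primeCompl _ a).1 (RingHom.mem_ker.1 ha)
      exact (hpp.mem_or_mem (hm ▸ p.zero_mem : (m : A) * a ∈ p)).resolve_left fun h => m.2 (hle h)
    exact le_antisymm (hp.2 ⟨RingHom.ker_isPrime _, bot_le⟩ hsub) hsub
  have hfin : (minimalPrimes A).Finite := minimalPrimes.finite_of_isNoetherianRing A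
  haveI : Finite (minimalPrimes A) := hfin.to_subtype
  have hcop : Pairwise fun p q : minimalPrimes A => IsCoprime p.1 q.1 := by
    intro p q hpq
    rw [Ideal.isCoprime_iff_sup_eq]
    by_contra hne
    obtain ⟨M, hM, hle⟩ := Ideal.exists_le_maximal _ hne
    exact hpq (Subtype.ext ((hker p.1 p.2 M hM.isPrime (le_sup_left.trans hle)).trans
      (hker q.1 q.2 M hM.isPrime (le_sup_right.trans hle)).symm))
  have hinf : ⨅ p : minimalPrimes A, p.1 = ⊥ := by
    refine le_bot_iff.1 fun a ha => ?_
    rw [show (⊥ : Ideal A) = nilradical A from (nilradical_eq_zero A).symm, nilradical,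
      ← Ideal.sInf_minimalPrimes]
    exact Submodule.mem_sInf.2 fun p hp => (Ideal.mem_iInf.1 ha) ⟨p, hp⟩
  haveI : ∀ p : minimalPrimes A, p.1.IsPrime := fun p => p.2.1.1
  refine ⟨minimalPrimes A, inferInstance, fun p => A ⧸ p.1, inferInstance, inferInstance,
    fun p => ?_, ⟨(RingEquiv.quotientBot A).symm.trans ((Ideal.quotEquivOfEq hinf.symm).trans
      (Ideal.quotientInfRingEquivPiQuotient _ hcop))⟩⟩
  haveI : Ring.DimensionLEOne (A ⧸ p.1) := ⟨fun {Q} hQ0 hQ => by
    haveI := hQ
    have h : Q.comap (Ideal.Quotient.mk p.1) ∉ minimalPrimes A := fun h => hQ0 <| by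
      have hle : p.1 ≤ Q.comap (Ideal.Quotient.mk p.1) := fun a ha => by
        simp [Ideal.Quotient.eq_zero_iff_mem.2 ha]
      have he := le_antisymm (h.2 p.2.1 hle) hle
      rw [← Ideal.map_comap_of_surjective _ Ideal.Quotient.mk_surjective Q, he,
        Ideal.map_quotient_self]
    haveI := (hdim _ inferInstance).resolve_left h
    rw [← Ideal.map_comap_of_surjective _ Ideal.Quotient.mk_surjective Q]
    exact (Ideal.map_eq_top_or_isMaximal_of_surjective _ Ideal.Quotient.mk_surjective this).resolve_left
      (by rw [Ideal.map_comap_of_surjective _ Ideal.Quotient.mk_surjective Q]; exact hQ.ne_top)⟩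
  haveI : IsIntegrallyClosed (A ⧸ p.1) := IsIntegrallyClosed.of_localization_maximal fun Q _ hQ => by
    let M := Q.comap (Ideal.Quotient.mk p.1)
    haveI := (hloc M).1
    haveI := (hloc M).2
    have hle : p.1 ≤ M := fun a ha => by
      simp [M, Ideal.Quotient.eq_zero_iff_mem.2 ha]
    let ψ : Localization.AtPrime M →+* Localization.AtPrime Q :=
      Localization.localRingHom M Q (Ideal.Quotient.mk p.1) rfl
    have hψ : Function.Bijective ψ := by
      refine ⟨(injective_iff_map_eq_zero _).2 fun x hx => ?_, fun y => ?_⟩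
      · obtain ⟨a, s, rfl⟩ := IsLocalization.exists_mk'_eq M.primeCompl x
        rw [Localization.localRingHom_mk', IsLocalization.mk'_eq_zero_iff] at hx
        obtain ⟨⟨t, ht⟩, hta⟩ := hx
        obtain ⟨t, rfl⟩ := Ideal.Quotient.mk_surjective t
        have hta' : t * a ∈ p.1 := Ideal.Quotient.eq_zero_iff_mem.1 (by rw [map_mul]; exact hta)
        have ha : a ∈ p.1 := (p.2.1.1.mem_or_mem hta').resolve_left fun h => ht (by
          change Ideal.Quotient.mk p.1 t ∈ Q
          exact hle h)
        rw [hker p.1 p.2 M inferInstance hle, RingHom.mem_ker] at ha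
        rw [IsLocalization.mk'_eq_mul_mk'_one, ha, zero_mul]
      · obtain ⟨a, ⟨s, hs⟩, rfl⟩ := IsLocalization.exists_mk'_eq Q.primeCompl y
        obtain ⟨a, rfl⟩ := Ideal.Quotient.mk_surjective a
        obtain ⟨s, rfl⟩ := Ideal.Quotient.mk_surjective s
        exact ⟨IsLocalization.mk' _ a (⟨s, hs⟩ : M.primeCompl), Localization.localRingHom_mk' _ _ _ _ _ _⟩
    exact IsIntegrallyClosed.of_equiv (RingEquiv.ofBijective ψ hψ)
  haveI : IsDedekindDomain (A ⧸ p.1) := { }
  refine IsPrincipalIdealRing.of_finite_maximals ?_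
  have hfinM : {M : Ideal A | M.IsMaximal}.Finite := by
    refine (Algebra.QuasiFinite.finite_primesOver (S := A) (IsLocalRing.maximalIdeal R)).subset ?_
    intro M (hM : M.IsMaximal)
    exact ⟨hM.isPrime, ⟨(IsLocalRing.eq_maximalIdeal
      (Ideal.IsMaximal.under R M)).symm⟩⟩
  refine (hfinM.image (Ideal.map (Ideal.Quotient.mk p.1))).subset fun Q hQ => ?_
  haveI : Q.IsMaximal := hQ
  exact ⟨Q.comap (Ideal.Quotient.mk p.1),
    Ideal.comap_isMaximal_of_surjective _ Ideal.Quotient.mk_surjective,
    Ideal.map_comap_of_surjective _ Ideal.Quotient.mk_surjective Q⟩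

end Groth.Agent.Lib.DualGm86
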