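import Groth.Agent.Lib.DualGm86.Torus
import Groth.Agent.Lib.DualGm86.SemiLocal
import Groth.Agent.Lib.DualGm86.NormFp
import Mathlib.AlgebraicGeometry.Morphisms.Finite

/-!
# `H^1` of the dual of a Weil restriction of `G_m` over a discrete valuation ring
-/

set_option autoImplicit false
set_option linter.style.haveILetI false
set_option maxHeartbeats 800000
set_option backward.isDefEq.respectTransparency.types false

universe u

open CategoryTheory CategoryTheory.Limits AlgebraicGeometry Opposite CategoryTheory.Abelian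

noncomputable section

namespace Groth.Agent.Lib.DualGm86

open Groth.Agent.Lib.GaGmExt

/-- `H^1` of the dual of `G_m` over an affine scheme finite étale over a discrete valuation ring. -/
theorem HU_dual_Gm_of_finite_etale {X : Scheme.{u}} (Y : Over X) (R : Type u) [CommRing R]
    [IsDomain R] [IsDiscreteValuationRing R] (π : Y.left ⟶ Spec (CommRingCat.of R)) [IsFinite π]
    [Etale π] :
    Subsingleton (BigSite.HU Scheme.fppfPrecoverage
      (Dual.H (Red.Gm X) (CGrpSh.pts Scheme.fppfPrecoverage (Red.Gm X))) 1 Y) := by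
  classical
  haveI : IsAffine Y.left := isAffine_of_isAffineHom π
  obtain ⟨φ, hφ⟩ : ∃ φ : CommRingCat.of R ⟶ Γ(Y.left, ⊤), Spec.map φ = Y.left.isoSpec.inv ≫ π :=
    ⟨Spec.preimage (Y.left.isoSpec.inv ≫ π), Spec.map_preimage _⟩
  letI : Algebra R Γ(Y.left, ⊤) := φ.hom.toAlgebra
  haveI : IsFinite (Spec.map φ) := by rw [hφ]; infer_instance
  haveI : Etale (Spec.map φ) := by rw [hφ]; infer_instance
  haveI : Module.Finite R Γ(Y.left, ⊤) := (IsFinite.SpecMap_iff _).mp ‹IsFinite (Spec.map φ)›
  haveI : Algebra.Etale R Γ(Y.left, ⊤) :=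
    RingHom.etale_algebraMap.mp ((HasRingHomProperty.Spec_iff (P := @Etale)).mp ‹Etale (Spec.map φ)›)
  obtain ⟨ι, _, D, _, _, _, ⟨e⟩⟩ := exists_pi_pid R Γ(Y.left, ⊤)
  obtain ⟨n, ⟨σ⟩⟩ := Finite.exists_equiv_fin ι
  let ev : ∀ i, Γ(Y.left, ⊤) ⟶ CommRingCat.of (D i) := fun i =>
    CommRingCat.ofHom ((Pi.evalRingHom D i).comp e.toRingHom)
  let m : ∀ i, Spec (CommRingCat.of (D i)) ⟶ Y.left := fun i => Spec.map (ev i) ≫ Y.left.isoSpec.inv
  have hopen : ∀ i, IsOpenImmersion (m i) := fun i => by
    haveI : IsOpenImmersion (Spec.map (ev i)) := by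
      change IsOpenImmersion (Spec.map (e.toCommRingCatIso.hom ≫ CommRingCat.ofHom (Pi.evalRingHom D i)))
      rw [Spec.map_comp]
      infer_instance
    infer_instance
  refine HU_of_cover _ (fun j => Over.mk (m (σ.symm j) ≫ Y.hom))
    (fun j => Over.homMk (m (σ.symm j)) rfl) (fun j => hopen _) (fun y => ?_) (fun j k d d' hd => ?_)
    fun j => Torus.subsingleton_HU_dual_Gm _
  · let q := (Y.left.isoSpec.hom y).asIdeal
    have hsum : ∑ i, (Pi.single (σ.symm i) (1 : D (σ.symm i)) : ∀ i, D i) = 1 := by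
      ext i
      rw [Finset.sum_apply, Finset.sum_eq_single (σ i)]
      · simp only [Pi.one_apply]
        generalize hi : σ.symm (σ i) = i'
        rw [Equiv.symm_apply_apply] at hi
        subst hi
        rw [Pi.single_eq_same]
      · intro b _ hb
        rw [Pi.single_eq_of_ne]
        intro hbi
        exact hb (by rw [hbi, Equiv.apply_symm_apply])
      · simp
    obtain ⟨j, hj⟩ : ∃ j, e.symm (Pi.single (σ.symm j) 1) ∉ q := by
      by_contra hall
      push Not at hall
      have : e.symm (∑ i, Pi.single (σ.symm i) 1) ∈ q := by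
        rw [map_sum]
        exact q.sum_mem fun i _ => hall i
      rw [hsum, map_one] at this
      exact (Y.left.isoSpec.hom y).isPrime.ne_top ((Ideal.eq_top_iff_one q).2 this)
    have hsurj : Function.Surjective (ev (σ.symm j)).hom :=
      (Function.surjective_eval _).comp e.surjective
    have hker : RingHom.ker (ev (σ.symm j)).hom ≤ q := fun a ha => by
      have h0 : a * e.symm (Pi.single (σ.symm j) 1) = 0 := e.injective (by
        rw [map_mul, e.apply_symm_apply, map_zero]
        ext i
        by_cases hi : i = σ.symm j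
        · subst hi
          have hz : e a (σ.symm j) = 0 := RingHom.mem_ker.1 ha
          simp [hz]
        · simp [Pi.single_eq_of_ne hi])
      exact ((Y.left.isoSpec.hom y).isPrime.mem_or_mem (h0 ▸ q.zero_mem)).resolve_right hj
    haveI := Ideal.map_isPrime_of_surjective hsurj hker
    refine ⟨j, (⟨q.map (ev (σ.symm j)).hom, inferInstance⟩ : PrimeSpectrum (D (σ.symm j))), ?_⟩
    change (m (σ.symm j)) _ = y
    rw [Scheme.Hom.comp_apply]
    have : (Spec.map (ev (σ.symm j)))
        (⟨q.map (ev (σ.symm j)).hom, inferInstance⟩ : PrimeSpectrum (D (σ.symm j))) =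
          Y.left.isoSpec.hom y := by
      refine PrimeSpectrum.ext ?_
      change (q.map (ev (σ.symm j)).hom).comap (ev (σ.symm j)).hom = q
      rw [Ideal.comap_map_of_surjective _ hsurj, sup_eq_left]
      exact hker
    rw [this, ← Scheme.Hom.comp_apply, Iso.hom_inv_id]
    rfl
  · by_contra hjk
    have h' : Spec.map (ev (σ.symm j)) d = Spec.map (ev (σ.symm k)) d' := by
      change Y.left.isoSpec.inv _ = Y.left.isoSpec.inv _ at hd
      exact Y.left.isoSpec.inv.homeomorph.injective hd
    have h1 : e.symm (Pi.single (σ.symm j) 1) ∈ (Spec.map (ev (σ.symm k)) d').asIdeal := by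
      change (ev (σ.symm k)) (e.symm (Pi.single (σ.symm j) 1)) ∈ d'.asIdeal
      simp [ev, Pi.single_eq_of_ne (σ.symm.injective.ne (Ne.symm hjk))]
    rw [← h'] at h1
    change (ev (σ.symm j)) (e.symm (Pi.single (σ.symm j) 1)) ∈ d.asIdeal at h1
    simp [ev] at h1
    exact d.isPrime.ne_top ((Ideal.eq_top_iff_one _).2 h1)

/-- `H^1(R, dual of f_* G_m) = 0` for `f` finite étale and a discrete valuation ring `R` over the base. -/
theorem HU_dual_push {X X' : Scheme.{u}} (f : X' ⟶ X) [IsFinite f] [Etale f] (R : Type u)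
    [CommRing R] [IsDomain R] [IsDiscreteValuationRing R] (t : Spec (CommRingCat.of R) ⟶ X) :
    Subsingleton (BigSite.HU Scheme.fppfPrecoverage (CGrpSh2.dualSh Scheme.fppfPrecoverage
      (CGrpSh3.pushGm Scheme.fppfPrecoverage f)) 1 (Over.mk t)) := by
  let N := H58NM.Norm.N f
  let D' := CGrpSh2.Gm Scheme.fppfPrecoverage X'
  open Groth.Agent.Lib.NormDual86 in
  have hb : ∀ T : Over X, Function.Bijective
      ((CGrpSh3.dualNormMap Scheme.fppfPrecoverage f N D').hom.app (Opposite.op T)) := fun T =>
    ⟨Fp.dualApp_injective (T := T) (F := D') rfl,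
      fun ψ => ⟨Fp.invHom (f := f) (F := D') ψ, Fp.dualApp_invHom ψ rfl⟩⟩
  haveI : IsIso ((sheafToPresheaf (QuotSh.J Scheme.fppfPrecoverage X) AddCommGrpCat.{u + 1}).map
      (CGrpSh3.dualNormMap Scheme.fppfPrecoverage f N D')) := by
    change IsIso (CGrpSh3.dualNormMap Scheme.fppfPrecoverage f N D').hom
    haveI : ∀ T, IsIso ((CGrpSh3.dualNormMap Scheme.fppfPrecoverage f N D').hom.app T) := fun T =>
      (ConcreteCategory.isIso_iff_bijective _).2 (hb T.unop)
    exact NatIso.isIso_of_isIso_app _
  haveI := CategoryTheory.isIso_of_reflects_iso (CGrpSh3.dualNormMap Scheme.fppfPrecoverage f N D')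
    (sheafToPresheaf (QuotSh.J Scheme.fppfPrecoverage X) AddCommGrpCat.{u + 1})
  refine @Function.Injective.subsingleton _ _ _ ((extFunctorObj _ 1).mapIso
    ((BigSite.pullBig Scheme.fppfPrecoverage (Over.mk t).hom AddCommGrpCat.{u + 1}).mapIso
      (asIso (CGrpSh3.dualNormMap Scheme.fppfPrecoverage f N D')).symm)).addCommGroupIsoToAddEquiv.injective
    (HU_push f _ (Over.mk t) ?_)
  haveI : IsFinite (pullback.fst t f) := MorphismProperty.pullback_fst t f inferInstance
  haveI : Etale (pullback.fst t f) := MorphismProperty.pullback_fst t f inferInstance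
  exact HU_dual_Gm_of_finite_etale ((Over.pullback f).obj (Over.mk t)) R (pullback.fst t f)

end Groth.Agent.Lib.DualGm86
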