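import Groth.Agent.Lib.DualGm86.SemiLocal
import Mathlib.RingTheory.Flat.EquationalCriterion
import Mathlib.RingTheory.Finiteness.ModuleFinitePresentation
import Mathlib.RingTheory.Etale.Basic
import Mathlib.RingTheory.RingHom.Flat
import Mathlib.RingTheory.Smooth.Flat

/-!
# Finite étale algebras over products of discrete valuation rings
-/

set_option autoImplicit false
set_option maxHeartbeats 800000

universe u

open scoped TensorProduct

noncomputable section

namespace Groth.Agent.Lib.DualGm86

/-- A finite étale algebra over a product of discrete valuation rings is a product of principal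
ideal domains. -/
theorem exists_pi_pid_of_pi {V : Type u} (Rv : V → Type u) [∀ v, CommRing (Rv v)] [∀ v, IsDomain (Rv v)]
    [∀ v, IsDiscreteValuationRing (Rv v)] (A : Type u) [CommRing A] [Algebra (∀ v, Rv v) A]
    [Module.Finite (∀ v, Rv v) A] [Algebra.Etale (∀ v, Rv v) A] :
    ∃ (κ : Type u) (D : κ → Type u) (_ : ∀ i, CommRing (D i)) (_ : ∀ i, IsDomain (D i))
      (_ : ∀ i, IsPrincipalIdealRing (D i)), Nonempty (A ≃+* ∀ i, D i) := by
  classical
  let R := ∀ v, Rv v
  haveI : Module.FinitePresentation R A := Module.FinitePresentation.of_finite_of_finitePresentation R A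
  haveI : Module.Projective R A := Module.Flat.projective_of_finitePresentation
  letI alg : ∀ v, Algebra R (Rv v) := fun v => (Pi.evalRingHom Rv v).toAlgebra
  obtain ⟨n, π, s, -, -, hπs⟩ := Module.Finite.exists_comp_eq_id_of_projective R A
  have hπs' : ∀ x, π (s x) = x := fun x => LinearMap.congr_fun hπs x
  let ψ : A →+* ∀ v, Rv v ⊗[R] A := Pi.ringHom fun v =>
    (Algebra.TensorProduct.includeRight (R := R) (A := Rv v) (B := A)).toRingHom
  have key : ∀ (v : V) (r r' : Fin n → R), (∀ k, r k v = r' k v) →
      (1 : Rv v) ⊗ₜ[R] π r = 1 ⊗ₜ[R] π r' := by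
    intro v r r' h
    rw [← Finset.univ_sum_single r, ← Finset.univ_sum_single r', map_sum, map_sum,
      TensorProduct.tmul_sum, TensorProduct.tmul_sum]
    refine Finset.sum_congr rfl fun k _ => ?_
    have hsingle : ∀ c : R, (Pi.single k c : Fin n → R) = c • Pi.single k 1 := fun c => by
      rw [← Pi.single_smul', smul_eq_mul, mul_one]
    rw [hsingle (r k), hsingle (r' k), map_smul, map_smul, ← TensorProduct.smul_tmul,
      ← TensorProduct.smul_tmul, Algebra.smul_def, Algebra.smul_def]
    exact congrArg (fun c : Rv v => (c * 1) ⊗ₜ[R] π (Pi.single k 1)) (h k)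
  have hbij : Function.Bijective ψ := by
    refine ⟨(injective_iff_map_eq_zero ψ).2 fun a ha => ?_, fun x => ?_⟩
    · rw [← hπs' a, show s a = 0 from ?_, map_zero]
      funext k v
      have h : (1 : Rv v) ⊗ₜ[R] a = 0 := congrFun ha v
      have := congrArg (((Algebra.linearMap R (Rv v)).comp
        ((LinearMap.proj k).comp s)).liftBaseChange (Rv v)) h
      simp [RingHom.algebraMap_toAlgebra] at this
      exact this
    · have hsurj : ∀ v, ∃ a : A, (1 : Rv v) ⊗ₜ[R] a = x v := fun v => by
        induction x v using TensorProduct.induction_on with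
        | zero => exact ⟨0, TensorProduct.tmul_zero _ _⟩
        | add y z hy hz =>
          obtain ⟨a, rfl⟩ := hy
          obtain ⟨b, rfl⟩ := hz
          exact ⟨a + b, TensorProduct.tmul_add _ _ _⟩
        | tmul c a =>
          refine ⟨(Pi.single v c : R) • a, ?_⟩
          rw [← TensorProduct.smul_tmul, Algebra.smul_def]
          exact congrArg (fun c => c ⊗ₜ[R] a) (by simp [RingHom.algebraMap_toAlgebra])
      choose a ha using hsurj
      refine ⟨π fun k v => s (a v) k v, funext fun v => ?_⟩
      change (1 : Rv v) ⊗ₜ[R] π (fun k v => s (a v) k v) = x v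
      rw [key v (fun k v => s (a v) k v) (s (a v)) fun k => rfl, hπs', ha]
  have hpieces : ∀ v, ∃ (ι : Type u) (D : ι → Type u) (_ : ∀ i, CommRing (D i))
      (_ : ∀ i, IsDomain (D i)) (_ : ∀ i, IsPrincipalIdealRing (D i)),
      Nonempty (Rv v ⊗[R] A ≃+* ∀ i, D i) := fun v => by
    obtain ⟨ι, _, D, hc, hd, hp, e⟩ := exists_pi_pid (Rv v) (Rv v ⊗[R] A)
    exact ⟨ι, D, hc, hd, hp, e⟩
  choose ι D hc hd hp e using hpieces
  let E : ∀ v, Rv v ⊗[R] A ≃+* ∀ i, D v i := fun v => Classical.choice (e v)
  refine ⟨Σ v, ι v, fun p => D p.1 p.2, fun p => hc p.1 p.2, fun p => hd p.1 p.2,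
    fun p => hp p.1 p.2, ⟨(RingEquiv.ofBijective ψ hbij).trans ((RingEquiv.piCongrRight E).trans
      { toFun := fun f p => f p.1 p.2
        invFun := fun g v i => g ⟨v, i⟩
        left_inv := fun f => rfl
        right_inv := fun g => rfl
        map_mul' := fun f g => rfl
        map_add' := fun f g => rfl })⟩⟩

end Groth.Agent.Lib.DualGm86
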