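import Groth.Agent.Lib.DualGm86.ProdTorus
import Groth.Agent.Lib.DualGm86.ProdEtale
import Groth.Agent.Lib.DualGm86.NormFp
import Mathlib.AlgebraicGeometry.Morphisms.Finite

/-!
# `H^1` of the dual of a Weil restriction of `G_m` over a product of discrete valuation rings
-/

set_option autoImplicit false
set_option linter.style.haveILetI false
set_option maxHeartbeats 800000
set_option backward.isDefEq.respectTransparency.types false

universe u

open CategoryTheory CategoryTheory.Limits AlgebraicGeometry Opposite CategoryTheory.Abelian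

noncomputable section

namespace Groth.Agent.Lib.DualGm86

open Groth.Agent.Lib.GaGmExt

/-- `H^1` of the dual of `G_m` over an affine scheme finite étale over a product of discrete valuation rings. -/
theorem HU_dual_Gm_of_finite_etale_pi {X : Scheme.{u}} (Y : Over X) {V : Type u} (Rv : V → Type u)
    [∀ v, CommRing (Rv v)] [∀ v, IsDomain (Rv v)] [∀ v, IsDiscreteValuationRing (Rv v)]
    (π : Y.left ⟶ Spec (CommRingCat.of (∀ v, Rv v))) [IsFinite π] [Etale π] :
    Subsingleton (BigSite.HU Scheme.fppfPrecoverage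
      (Dual.H (Red.Gm X) (CGrpSh.pts Scheme.fppfPrecoverage (Red.Gm X))) 1 Y) := by
  classical
  haveI : IsAffine Y.left := isAffine_of_isAffineHom π
  obtain ⟨φ, hφ⟩ : ∃ φ : CommRingCat.of (∀ v, Rv v) ⟶ Γ(Y.left, ⊤),
      Spec.map φ = Y.left.isoSpec.inv ≫ π :=
    ⟨Spec.preimage (Y.left.isoSpec.inv ≫ π), Spec.map_preimage _⟩
  letI : Algebra (∀ v, Rv v) Γ(Y.left, ⊤) := φ.hom.toAlgebra
  haveI : IsFinite (Spec.map φ) := by rw [hφ]; infer_instance
  haveI : Etale (Spec.map φ) := by rw [hφ]; infer_instance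
  haveI : Module.Finite (∀ v, Rv v) Γ(Y.left, ⊤) := (IsFinite.SpecMap_iff _).mp ‹IsFinite (Spec.map φ)›
  haveI : Algebra.Etale (∀ v, Rv v) Γ(Y.left, ⊤) :=
    RingHom.etale_algebraMap.mp ((HasRingHomProperty.Spec_iff (P := @Etale)).mp ‹Etale (Spec.map φ)›)
  obtain ⟨κ, D, _, _, _, ⟨e⟩⟩ := exists_pi_pid_of_pi Rv Γ(Y.left, ⊤)
  let m : Spec (CommRingCat.of (∀ i, D i)) ⟶ Y.left :=
    Spec.map e.toCommRingCatIso.hom ≫ Y.left.isoSpec.inv
  haveI : IsIso m := inferInstance
  refine HU_of_cover _ (fun _ : Fin 1 => Over.mk (m ≫ Y.hom))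
    (fun _ => Over.homMk m rfl) (fun _ => inferInstanceAs (IsOpenImmersion m)) (fun y => ?_)
    (fun j k _ _ _ => Subsingleton.elim j k) fun _ => Torus.subsingleton_HU_dual_Gm_pi D
  obtain ⟨d, hd⟩ := m.homeomorph.surjective y
  exact ⟨0, d, hd⟩

/-- `H^1(T, dual of f_* G_m)` from `H^1` of the dual of `G_m` over the base change of `T`. -/
theorem HU_dual_push_of {X X' : Scheme.{u}} (f : X' ⟶ X) [IsFinite f] [Etale f] (T : Over X)
    (h : Subsingleton (BigSite.HU Scheme.fppfPrecoverage
      (Dual.H (Red.Gm X') (CGrpSh.pts Scheme.fppfPrecoverage (Red.Gm X'))) 1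
      ((Over.pullback f).obj T))) :
    Subsingleton (BigSite.HU Scheme.fppfPrecoverage (CGrpSh2.dualSh Scheme.fppfPrecoverage
      (CGrpSh3.pushGm Scheme.fppfPrecoverage f)) 1 T) := by
  let N := H58NM.Norm.N f
  let D' := CGrpSh2.Gm Scheme.fppfPrecoverage X'
  open Groth.Agent.Lib.NormDual86 in
  have hb : ∀ T : Over X, Function.Bijective
      ((CGrpSh3.dualNormMap Scheme.fppfPrecoverage f N D').hom.app (Opposite.op T)) := fun T =>
    ⟨Fp.dualApp_injective (T := T) (F := D') rfl,
      fun ψ => ⟨Fp.invHom (f := f) (F := D') ψ, Fp.dualApp_invHom ψ rfl⟩⟩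
  haveI : IsIso ((sheafToPresheaf (QuotSh.J Scheme.fppfPrecoverage X) AddCommGrpCat.{u + 1}).map
      (CGrpSh3.dualNormMap Scheme.fppfPrecoverage f N D')) := by
    change IsIso (CGrpSh3.dualNormMap Scheme.fppfPrecoverage f N D').hom
    haveI : ∀ T, IsIso ((CGrpSh3.dualNormMap Scheme.fppfPrecoverage f N D').hom.app T) := fun T =>
      (ConcreteCategory.isIso_iff_bijective _).2 (hb T.unop)
    exact NatIso.isIso_of_isIso_app _
  haveI := CategoryTheory.isIso_of_reflects_iso (CGrpSh3.dualNormMap Scheme.fppfPrecoverage f N D')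
    (sheafToPresheaf (QuotSh.J Scheme.fppfPrecoverage X) AddCommGrpCat.{u + 1})
  exact @Function.Injective.subsingleton _ _ _ ((extFunctorObj _ 1).mapIso
    ((BigSite.pullBig Scheme.fppfPrecoverage T.hom AddCommGrpCat.{u + 1}).mapIso
      (asIso (CGrpSh3.dualNormMap Scheme.fppfPrecoverage f N D')).symm)).addCommGroupIsoToAddEquiv.injective
    (HU_push f _ T h)

/-- `H^1` of the dual of `f_* G_m` over a product of discrete valuation rings. -/
theorem HU_dual_push_pi {X X' : Scheme.{u}} (f : X' ⟶ X) [IsFinite f] [Etale f] {V : Type u}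
    (Rv : V → Type u) [∀ v, CommRing (Rv v)] [∀ v, IsDomain (Rv v)]
    [∀ v, IsDiscreteValuationRing (Rv v)] (t : Spec (CommRingCat.of (∀ v, Rv v)) ⟶ X) :
    Subsingleton (BigSite.HU Scheme.fppfPrecoverage (CGrpSh2.dualSh Scheme.fppfPrecoverage
      (CGrpSh3.pushGm Scheme.fppfPrecoverage f)) 1 (Over.mk t)) := by
  refine HU_dual_push_of f (Over.mk t) ?_
  haveI : IsFinite (pullback.fst t f) := MorphismProperty.pullback_fst t f inferInstance
  haveI : Etale (pullback.fst t f) := MorphismProperty.pullback_fst t f inferInstance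
  exact HU_dual_Gm_of_finite_etale_pi ((Over.pullback f).obj (Over.mk t)) Rv (pullback.fst t f)

end Groth.Agent.Lib.DualGm86
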