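import Mathlib.RingTheory.PicardGroup
import Mathlib.Algebra.Polynomial.Laurent
import Mathlib.Algebra.MonoidAlgebra.NoZeroDivisors
import Mathlib.GroupTheory.MonoidLocalization.UniqueFactorization
import Mathlib.RingTheory.Polynomial.UniqueFactorization
import Mathlib.RingTheory.PrincipalIdealDomain
import Mathlib.Data.Int.Interval

/-!
# Invertible modules over Laurent polynomials over an infinite product of principal ideal domains
-/

set_option autoImplicit false
set_option maxHeartbeats 800000

universe u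

open scoped TensorProduct

noncomputable section

namespace Groth.Agent.Lib.DualGm86.ProdPic

/-- Invertible modules over Laurent polynomials over a principal ideal domain are free. -/
theorem free_laurent {D : Type u} [CommRing D] [IsDomain D] [IsPrincipalIdealRing D] (M : Type u)
    [AddCommGroup M] [Module (AddMonoidAlgebra D ℤ) M] [Module.Invertible (AddMonoidAlgebra D ℤ) M] :
    Nonempty (M ≃ₗ[AddMonoidAlgebra D ℤ] AddMonoidAlgebra D ℤ) := by
  haveI : UniqueFactorizationMonoid (LaurentPolynomial D) :=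
    UniqueFactorizationMonoid.of_isLocalization (Submonoid.powers (Polynomial.X : Polynomial D))
      (LaurentPolynomial D)
  haveI : Nonempty (GCDMonoid (LaurentPolynomial D)) := ⟨UniqueFactorizationMonoid.toGCDMonoid _⟩
  haveI : IsGCDMonoid (LaurentPolynomial D) := inferInstance
  haveI : Subsingleton (CommRing.Pic (AddMonoidAlgebra D ℤ)) :=
    (inferInstance : Subsingleton (CommRing.Pic (LaurentPolynomial D)))
  exact Module.Invertible.free_iff_linearEquiv.mp inferInstance

theorem coeff_add_min {D : Type u} [CommRing D] [IsDomain D] {f g : AddMonoidAlgebra D ℤ}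
    (hf : f.coeff.support.Nonempty) (hg : g.coeff.support.Nonempty) :
    (f * g).coeff (f.coeff.support.min' hf + g.coeff.support.min' hg) ≠ 0 := by
  rw [AddMonoidAlgebra.coeff_mul_add_of_uniqueAdd]
  · exact mul_ne_zero (Finsupp.mem_support_iff.1 (Finset.min'_mem _ hf))
      (Finsupp.mem_support_iff.1 (Finset.min'_mem _ hg))
  · intro a b ha hb h
    have := f.coeff.support.min'_le a ha
    have := g.coeff.support.min'_le b hb
    constructor <;> omega

theorem coeff_add_max {D : Type u} [CommRing D] [IsDomain D] {f g : AddMonoidAlgebra D ℤ}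
    (hf : f.coeff.support.Nonempty) (hg : g.coeff.support.Nonempty) :
    (f * g).coeff (f.coeff.support.max' hf + g.coeff.support.max' hg) ≠ 0 := by
  rw [AddMonoidAlgebra.coeff_mul_add_of_uniqueAdd]
  · exact mul_ne_zero (Finsupp.mem_support_iff.1 (Finset.max'_mem _ hf))
      (Finsupp.mem_support_iff.1 (Finset.max'_mem _ hg))
  · intro a b ha hb h
    have := f.coeff.support.le_max' a ha
    have := g.coeff.support.le_max' b hb
    constructor <;> omega

/-- A bound on one factor from bounds on a product. -/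
theorem bound_factor {D : Type u} [CommRing D] [IsDomain D] {f g : AddMonoidAlgebra D ℤ} {lo hi : ℤ}
    (hf : f.coeff.support.Nonempty) (hfg : ∀ m, (f * g).coeff m ≠ 0 → lo ≤ m ∧ m ≤ hi) (m : ℤ)
    (hm : g.coeff m ≠ 0) : lo - f.coeff.support.min' hf ≤ m ∧ m ≤ hi - f.coeff.support.max' hf := by
  have hg : g.coeff.support.Nonempty := ⟨m, Finsupp.mem_support_iff.2 hm⟩
  have h1 := (hfg _ (coeff_add_min hf hg)).1
  have h2 := (hfg _ (coeff_add_max hf hg)).2
  have := g.coeff.support.min'_le m (Finsupp.mem_support_iff.2 hm)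
  have := g.coeff.support.le_max' m (Finsupp.mem_support_iff.2 hm)
  constructor <;> omega

/-- Normalised factorisations have uniformly bounded supports. -/
theorem exists_normalized {D : Type u} [CommRing D] [IsDomain D] {n : ℕ} (d : ℤ)
    (P : Fin n → Fin n → AddMonoidAlgebra D ℤ)
    (hP : ∀ j k m, (P j k).coeff m ≠ 0 → -d ≤ m ∧ m ≤ d)
    (a b : Fin n → AddMonoidAlgebra D ℤ) (hab : ∀ j k, P j k = a j * b k) (h1 : ∑ j, b j * a j = 1) :
    ∃ a' b' : Fin n → AddMonoidAlgebra D ℤ, (∀ j k, P j k = a' j * b' k) ∧ (∑ j, b' j * a' j = 1) ∧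
      (∀ j m, (a' j).coeff m ≠ 0 → m ∈ Finset.Icc (-2 * d) (2 * d)) ∧
      ∀ j m, (b' j).coeff m ≠ 0 → m ∈ Finset.Icc (-2 * d) (2 * d) := by
  obtain ⟨j₀, hj₀⟩ : ∃ j, b j * a j ≠ 0 := by
    by_contra h
    push Not at h
    rw [Finset.sum_eq_zero (fun j _ => h j)] at h1
    exact zero_ne_one h1
  have hne : ∀ {f : AddMonoidAlgebra D ℤ}, f ≠ 0 → f.coeff.support.Nonempty := fun {f} hf =>
    Finsupp.support_nonempty_iff.2 fun h => hf (AddMonoidAlgebra.coeff_injective (by simpa using h))
  let s : ℤ := -(a j₀).coeff.support.min' (hne (right_ne_zero_of_mul hj₀))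
  let t : AddMonoidAlgebra D ℤ := AddMonoidAlgebra.single s 1
  let t' : AddMonoidAlgebra D ℤ := AddMonoidAlgebra.single (-s) 1
  have htt : t * t' = 1 := by
    rw [AddMonoidAlgebra.single_mul_single, add_neg_cancel, one_mul]; rfl
  have ha0 : (t * a j₀).coeff.support.Nonempty :=
    hne (mul_ne_zero (fun h => by simp [h] at htt) (right_ne_zero_of_mul hj₀))
  have hb0 : (t' * b j₀).coeff.support.Nonempty :=
    hne (mul_ne_zero (fun h => by simp [h] at htt) (left_ne_zero_of_mul hj₀))
  have key : ∀ j k, P j k = (t * a j) * (t' * b k) := fun j k => by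
    rw [hab, mul_mul_mul_comm, htt, one_mul]
  have hmin : (0 : ℤ) ∈ (t * a j₀).coeff.support ∧ ∀ m ∈ (t * a j₀).coeff.support, 0 ≤ m := by
    have hmem : ∀ m, (t * a j₀).coeff m = (a j₀).coeff (m - s) := fun m => by
      have := AddMonoidAlgebra.coeff_single_mul_add (a j₀) (1 : D) s (m - s)
      rwa [add_sub_cancel, one_mul] at this
    constructor
    · rw [Finsupp.mem_support_iff, hmem, zero_sub, neg_neg]
      exact Finsupp.mem_support_iff.1 (Finset.min'_mem _ _)
    · intro m hm
      rw [Finsupp.mem_support_iff, hmem] at hm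
      have := (a j₀).coeff.support.min'_le (m - s) (Finsupp.mem_support_iff.2 hm)
      omega
  have hb : ∀ k m, (t' * b k).coeff m ≠ 0 → -d ≤ m ∧ m ≤ d := fun k m hm => by
    have hf := ha0
    obtain ⟨l, h⟩ := bound_factor hf (lo := -d) (hi := d)
      (fun m hm => hP j₀ k m (by rw [key]; exact hm)) m hm
    have h' := Finset.min'_le _ _ hmin.1
    have h'' := Finset.le_max' _ _ hmin.1
    have := hmin.2 _ (Finset.min'_mem _ hf)
    constructor <;> omega
  refine ⟨fun j => t * a j, fun k => t' * b k, key, ?_, fun j m hm => ?_, fun k m hm => ?_⟩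
  · rw [← h1]
    refine Finset.sum_congr rfl fun j _ => ?_
    rw [mul_mul_mul_comm, mul_comm t' t, htt, one_mul]
  · obtain ⟨l, h⟩ := bound_factor hb0 (lo := -d) (hi := d)
      (fun m hm => hP j j₀ m (by rw [key, mul_comm]; exact hm)) m hm
    have := (hb j₀ _ (Finsupp.mem_support_iff.1 (Finset.min'_mem _ hb0)))
    have := (hb j₀ _ (Finsupp.mem_support_iff.1 (Finset.max'_mem _ hb0)))
    rw [Finset.mem_Icc]; omega
  · have := hb k m hm
    rw [Finset.mem_Icc]; omega

variable {ι : Type u} (D : ι → Type u) [∀ i, CommRing (D i)]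

/-- Components. -/
abbrev cmp (i : ι) : AddMonoidAlgebra (∀ i, D i) ℤ →+* AddMonoidAlgebra (D i) ℤ :=
  AddMonoidAlgebra.mapRingHom ℤ (Pi.evalRingHom D i)

theorem coeff_cmp (i : ι) (F : AddMonoidAlgebra (∀ i, D i) ℤ) (m : ℤ) :
    (cmp D i F).coeff m = F.coeff m i := by
  simp [cmp]

theorem cmp_ext {F G : AddMonoidAlgebra (∀ i, D i) ℤ} (h : ∀ i, cmp D i F = cmp D i G) : F = G :=
  AddMonoidAlgebra.coeff_injective (Finsupp.ext fun m => funext fun i => by
    rw [← coeff_cmp, ← coeff_cmp, h i])

theorem exists_lift (W : Finset ℤ) (f : ∀ i, AddMonoidAlgebra (D i) ℤ)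
    (hf : ∀ i m, (f i).coeff m ≠ 0 → m ∈ W) : ∃ F, ∀ i, cmp D i F = f i := by
  classical
  refine ⟨∑ m ∈ W, AddMonoidAlgebra.single m (fun i => (f i).coeff m), fun i => ?_⟩
  refine AddMonoidAlgebra.coeff_injective (Finsupp.ext fun m => ?_)
  rw [coeff_cmp, AddMonoidAlgebra.coeff_sum, Finsupp.finsetSum_apply]
  simp only [AddMonoidAlgebra.coeff_single, Finsupp.single_apply, Finset.sum_ite_eq']
  split_ifs with h
  · rfl
  · rw [Pi.zero_apply]
    by_contra hne
    exact h (hf i m (Ne.symm hne))

variable [∀ i, IsDomain (D i)] [∀ i, IsPrincipalIdealRing (D i)]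

/-- Invertible modules over Laurent polynomials over a product of principal ideal domains are free. -/
theorem free_laurent_pi (M : Type u) [AddCommGroup M] [Module (AddMonoidAlgebra (∀ i, D i) ℤ) M]
    [Module.Invertible (AddMonoidAlgebra (∀ i, D i) ℤ) M] :
    Nonempty (M ≃ₗ[AddMonoidAlgebra (∀ i, D i) ℤ] AddMonoidAlgebra (∀ i, D i) ℤ) := by
  classical
  let R := AddMonoidAlgebra (∀ i, D i) ℤ
  obtain ⟨n, π, s, -, -, hπs⟩ := Module.Finite.exists_comp_eq_id_of_projective R M
  let e : Fin n → (Fin n → R) := fun j => Pi.single j 1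
  have hπ : ∀ r : Fin n → R, π r = ∑ j, r j • π (e j) := fun r => by
    conv_lhs => rw [← Finset.univ_sum_single r]
    rw [map_sum]
    refine Finset.sum_congr rfl fun j _ => ?_
    rw [← map_smul, ← Pi.single_smul', smul_eq_mul, mul_one]
  have hπs' : ∀ x, π (s x) = x := fun x => LinearMap.congr_fun hπs x
  let P : Fin n → Fin n → R := fun j k => s (π (e j)) k
  let U : Finset ℤ := Finset.univ.biUnion fun j => Finset.univ.biUnion fun k => (P j k).coeff.support
  let d : ℤ := ∑ m ∈ U, |m|
  have hd : ∀ i j k m, (cmp D i (P j k)).coeff m ≠ 0 → -d ≤ m ∧ m ≤ d := fun i j k m hm => by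
    have : m ∈ U := Finset.mem_biUnion.2 ⟨j, Finset.mem_univ _, Finset.mem_biUnion.2 ⟨k,
      Finset.mem_univ _, Finsupp.mem_support_iff.2 fun h => hm (by rw [coeff_cmp, h]; rfl)⟩⟩
    have := Finset.single_le_sum (f := fun m : ℤ => |m|) (fun x _ => abs_nonneg x) this
    constructor <;> [have := neg_abs_le m; have := le_abs_self m] <;> omega
  have hfac : ∀ i, ∃ a b : Fin n → AddMonoidAlgebra (D i) ℤ,
      (∀ j k, cmp D i (P j k) = a j * b k) ∧ (∑ j, b j * a j = 1) ∧
      (∀ j m, (a j).coeff m ≠ 0 → m ∈ Finset.Icc (-2 * d) (2 * d)) ∧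
      ∀ j m, (b j).coeff m ≠ 0 → m ∈ Finset.Icc (-2 * d) (2 * d) := fun i => by
    letI : Algebra R (AddMonoidAlgebra (D i) ℤ) := (cmp D i).toAlgebra
    obtain ⟨θ⟩ := free_laurent (D := D i) ((AddMonoidAlgebra (D i) ℤ) ⊗[R] M)
    let a : Fin n → AddMonoidAlgebra (D i) ℤ := fun j => θ (1 ⊗ₜ π (e j))
    let l : Fin n → ((AddMonoidAlgebra (D i) ℤ) ⊗[R] M →ₗ[AddMonoidAlgebra (D i) ℤ]
        AddMonoidAlgebra (D i) ℤ) := fun k =>
      ((Algebra.linearMap R (AddMonoidAlgebra (D i) ℤ)).comp
        ((LinearMap.proj k).comp s)).liftBaseChange (AddMonoidAlgebra (D i) ℤ)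
    let b : Fin n → AddMonoidAlgebra (D i) ℤ := fun k => l k (θ.symm 1)
    have hl : ∀ k y, l k y = θ y * b k := fun k y => by
      conv_lhs => rw [← θ.symm_apply_apply y, ← mul_one (θ y), ← smul_eq_mul, map_smul, map_smul]
      rfl
    have hlt : ∀ k x, l k (1 ⊗ₜ x) = cmp D i (s x k) := fun k x => by
      simp [l, RingHom.algebraMap_toAlgebra]
    refine exists_normalized d (fun j k => cmp D i (P j k)) (fun j k => hd i j k) a b
      (fun j k => by rw [← hl k, hlt]) ?_
    have hsum : ∀ y, ∑ j, l j y • ((1 : AddMonoidAlgebra (D i) ℤ) ⊗ₜ[R] π (e j)) = y := fun y => by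
      induction y using TensorProduct.induction_on with
      | zero => simp
      | add y z hy hz => simp only [map_add, add_smul, Finset.sum_add_distrib, hy, hz]
      | tmul c x =>
        rw [show c ⊗ₜ[R] x = c • ((1 : AddMonoidAlgebra (D i) ℤ) ⊗ₜ[R] x) by
          rw [TensorProduct.smul_tmul', smul_eq_mul, mul_one]]
        simp only [map_smul, hlt, smul_assoc, ← Finset.smul_sum]
        congr 1
        conv_rhs => rw [← hπs' x, hπ (s x), TensorProduct.tmul_sum]
        refine Finset.sum_congr rfl fun j _ => ?_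
        rw [TensorProduct.tmul_smul, ← algebraMap_smul (AddMonoidAlgebra (D i) ℤ) (s x j)]
        rfl
    have := congrArg θ (hsum (θ.symm 1))
    rw [map_sum, θ.apply_symm_apply] at this
    simpa [a, b, map_smul] using this
  choose a b hab h1 ha hb using hfac
  choose A hA using fun j => exists_lift D (Finset.Icc (-2 * d) (2 * d)) (fun i => a i j)
    (fun i => ha i j)
  choose B hB using fun j => exists_lift D (Finset.Icc (-2 * d) (2 * d)) (fun i => b i j)
    (fun i => hb i j)
  have hAB : ∀ j k, A j * B k = P j k := fun j k => cmp_ext D fun i => by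
    rw [map_mul, hA, hB, hab]
  have hone : ∑ j, B j * A j = 1 := cmp_ext D fun i => by
    simp only [map_sum, map_mul, hA, hB, h1, map_one]
  let f : M →ₗ[R] R := ∑ j, A j • ((LinearMap.proj j).comp s)
  let g : R →ₗ[R] M := LinearMap.toSpanSingleton R M (∑ k, B k • π (e k))
  have hf : ∀ x, f x = ∑ j, A j * s x j := fun x => by simp [f]
  have hg : ∀ r, g r = r • ∑ k, B k • π (e k) := fun r => rfl
  refine ⟨LinearEquiv.ofLinear f g (LinearMap.ext_ring ?_) (LinearMap.ext fun x => ?_)⟩
  · simp only [LinearMap.comp_apply, LinearMap.id_apply, hg, one_smul, map_sum, map_smul, hf,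
      Finset.sum_apply, Pi.smul_apply, smul_eq_mul, Finset.mul_sum]
    calc _ = ∑ j, ∑ k, (B k * A k) * (B j * A j) := by
          first
          | exact Finset.sum_congr rfl fun j _ => Finset.sum_congr rfl fun k _ => by
              rw [show s (π (e k)) j = A k * B j from (hAB k j).symm]; ring
          | (rw [Finset.sum_comm]; exact Finset.sum_congr rfl fun j _ => Finset.sum_congr rfl fun k _ => by
              rw [show s (π (e j)) k = A j * B k from (hAB j k).symm]; ring)
      _ = (∑ k, B k * A k) * ∑ j, B j * A j := by rw [Finset.sum_mul_sum, Finset.sum_comm]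
      _ = 1 := by rw [hone, one_mul]
  · simp only [LinearMap.comp_apply, LinearMap.id_apply, hg, Finset.smul_sum, smul_smul, hf]
    conv_rhs => rw [← hπs' x, ← hπs' (π (s x)), hπ (s (π (s x)))]
    refine Finset.sum_congr rfl fun k _ => congrArg (fun c : R => c • π (e k)) ?_
    rw [hπ (s x), map_sum, Finset.sum_apply, Finset.sum_mul]
    refine Finset.sum_congr rfl fun j _ => ?_
    rw [map_smul, Pi.smul_apply, smul_eq_mul, show s (π (e j)) k = A j * B k from (hAB j k).symm]
    ring

end Groth.Agent.Lib.DualGm86.ProdPic
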