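import Groth.Agent.Lib.DualGm86.Torus
import Groth.Agent.Lib.DualGm86.ProdPic
import Groth.Agent.Lib.Pic85.Dict

/-!
# `H^1` of the dual of `G_m` over a product of principal ideal domains
-/

set_option autoImplicit false
set_option maxHeartbeats 800000
set_option backward.isDefEq.respectTransparency.types false

universe u

open CategoryTheory CategoryTheory.Limits AlgebraicGeometry Opposite CategoryTheory.Abelian MonObj
  MonoidalCategory CartesianMonoidalCategory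

noncomputable section

namespace Groth.Agent.Lib.DualGm86.Torus

open Groth.Agent.Lib.RedPts Groth.Agent.Lib.GaGmExt Groth.Agent.Lib.GaGmExt.Shift
  Groth.Agent.Lib.GaGmExt.Sect Groth.Agent.Lib.TorusUnits.Basic Groth.Agent.Lib.DualGm86

variable {κ : Type u} (D : κ → Type u) [∀ i, CommRing (D i)] [∀ i, IsDomain (D i)]

omit [∀ i, IsDomain (D i)] in
theorem map_mapDomain {G H : Type} [AddCommGroup G] [AddCommGroup H] (π : G →+ H) (i : κ)
    (F : AddMonoidAlgebra (∀ i, D i) G) :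
    AddMonoidAlgebra.mapRingHom H (Pi.evalRingHom D i) (AddMonoidAlgebra.mapDomainRingHom _ π F) =
      AddMonoidAlgebra.mapDomainRingHom _ π (AddMonoidAlgebra.mapRingHom G (Pi.evalRingHom D i) F) := by
  refine RingHom.congr_fun (f := (AddMonoidAlgebra.mapRingHom H (Pi.evalRingHom D i)).comp
    (AddMonoidAlgebra.mapDomainRingHom _ π)) (g := (AddMonoidAlgebra.mapDomainRingHom _ π).comp
      (AddMonoidAlgebra.mapRingHom G (Pi.evalRingHom D i))) ?_ F
  refine AddMonoidAlgebra.ringHom_ext (fun c => ?_) fun m => ?_ <;> simp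

/-- A unit of `A[ℤ²]` constant on both axes is constant, `A` a product of domains. -/
theorem eq_single_of_axes (F : AddMonoidAlgebra (∀ i, D i) (ℤ × ℤ)) (hF : IsUnit F)
    (h₁ : AddMonoidAlgebra.mapDomainRingHom _ (AddMonoidHom.fst ℤ ℤ) F =
      AddMonoidAlgebra.mapDomainRingHom _ (0 : ℤ × ℤ →+ ℤ) F)
    (h₂ : AddMonoidAlgebra.mapDomainRingHom _ (AddMonoidHom.snd ℤ ℤ) F =
      AddMonoidAlgebra.mapDomainRingHom _ (0 : ℤ × ℤ →+ ℤ) F) :
    F = AddMonoidAlgebra.single 0 (F.coeff 0) := by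
  refine AddMonoidAlgebra.coeff_injective (Finsupp.ext fun p => funext fun i => ?_)
  obtain ⟨⟨a, b⟩, c, hc⟩ := exists_eq_single_of_isUnit
    (hF.map (AddMonoidAlgebra.mapRingHom (ℤ × ℤ) (Pi.evalRingHom D i)))
  have hne : c ≠ 0 := fun h0 => by
    have := (hF.map (AddMonoidAlgebra.mapRingHom (ℤ × ℤ) (Pi.evalRingHom D i))).ne_zero
    exact this (hc.trans (by rw [h0, AddMonoidAlgebra.single_zero]))
  have key : ∀ π : ℤ × ℤ →+ ℤ, AddMonoidAlgebra.mapDomainRingHom _ π F =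
      AddMonoidAlgebra.mapDomainRingHom _ (0 : ℤ × ℤ →+ ℤ) F → π (a, b) = 0 := fun π hπ => by
    have h := congrArg (fun G => (AddMonoidAlgebra.mapRingHom ℤ (Pi.evalRingHom D i) G).coeff) hπ
    rw [map_mapDomain, map_mapDomain, hc] at h
    simp only [AddMonoidAlgebra.mapDomainRingHom_apply,
      AddMonoidAlgebra.mapDomain_single, AddMonoidAlgebra.coeff_single,
      Finsupp.single_eq_single_iff, AddMonoidHom.zero_apply] at h
    exact h.elim (fun h => h.1) fun h => absurd h.1 hne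
  have ha : a = 0 := key _ h₁
  have hb : b = 0 := key _ h₂
  subst ha hb
  have h0 : ∀ q, F.coeff q i = (AddMonoidAlgebra.single ((0, 0) : ℤ × ℤ) c).coeff q := fun q => by
    rw [← hc]; simp
  rw [AddMonoidAlgebra.coeff_single]
  by_cases hp : p = 0
  · subst hp; rw [Finsupp.single_eq_same]
  · rw [Finsupp.single_eq_of_ne hp, Pi.zero_apply, h0, AddMonoidAlgebra.coeff_single]
    exact Finsupp.single_eq_of_ne hp

variable {X : Scheme.{u}} {h : Spec (CommRingCat.of (∀ i, D i)) ⟶ X}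

/-- Units constant on both axes come from the base. -/
theorem const_of_axes_pi (u : (Fn (Red.Gm X ⊗ Red.Gm X)).obj (Over.mk h) ⟶ Red.Gm X)
    (h₁ : fnMap (lift (𝟙 (Red.Gm X)) 1) (Over.mk h) ≫ u = fnMap (lift 1 1) (Over.mk h) ≫ u)
    (h₂ : fnMap (lift 1 (𝟙 (Red.Gm X))) (Over.mk h) ≫ u = fnMap (lift 1 1) (Over.mk h) ≫ u) :
    ∃ v : Over.mk h ⟶ Red.Gm X, pr₁ (Red.Gm X ⊗ Red.Gm X) (Over.mk h) ≫ v = u := by
  let x := (Gm.isUnit_gmFn (pr₂ (Red.Gm X ⊗ Red.Gm X) (Over.mk h) ≫ fst (Red.Gm X) (Red.Gm X))).unit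
  let y := (Gm.isUnit_gmFn (pr₂ (Red.Gm X ⊗ Red.Gm X) (Over.mk h) ≫ snd (Red.Gm X) (Red.Gm X))).unit
  let χ : Multiplicative (ℤ × ℤ) →* Γ(((Fn (Red.Gm X ⊗ Red.Gm X)).obj (Over.mk h)).left, ⊤)ˣ :=
    MonoidHom.mk' (fun p => x ^ p.toAdd.1 * y ^ p.toAdd.2) fun p q => by
      simp only [toAdd_mul, Prod.fst_add, Prod.snd_add, zpow_add]
      rw [_root_.mul_mul_mul_comm]
  let g : tor h (ℤ × ℤ) ⟶ (Fn (Red.Gm X ⊗ Red.Gm X)).obj (Over.mk h) :=
    pair (torπ h _) (lift (Gm.gmPt (mono' h _ (Multiplicative.ofAdd ((1, 0) : ℤ × ℤ))))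
      (Gm.gmPt (mono' h _ (Multiplicative.ofAdd ((0, 1) : ℤ × ℤ)))))
  have heg : toTor (pr₁ _ _) χ ≫ g = 𝟙 _ := by
    refine hom_ext' (by rw [Category.assoc, pair_pr₁, toTor_π, Category.id_comp]) ?_
    rw [Category.assoc, pair_pr₂, Category.id_comp]
    apply CartesianMonoidalCategory.hom_ext
    · rw [Category.assoc, lift_fst]
      apply Gm.gmFn_injective
      rw [Gm.gmFn_comp, Gm.gmFn_gmPt, mono'_val, toTor_appTop]
      simp [χ, x]
    · rw [Category.assoc, lift_snd]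
      apply Gm.gmFn_injective
      rw [Gm.gmFn_comp, Gm.gmFn_gmPt, mono'_val, toTor_appTop]
      simp [χ, y]
  let F : AddMonoidAlgebra (∀ i, D i) (ℤ × ℤ) := (Scheme.ΓSpecIso (CommRingCat.of
      (AddMonoidAlgebra (∀ i, D i) (ℤ × ℤ)))).hom (Red.gmFn (g ≫ u))
  have hFu : IsUnit F := (Gm.isUnit_gmFn (g ≫ u)).map (Scheme.ΓSpecIso (CommRingCat.of
      (AddMonoidAlgebra (∀ i, D i) (ℤ × ℤ)))).hom.hom
  have hu : Red.gmFn u = (toTor (pr₁ _ _) χ).left.appTop
      ((Scheme.ΓSpecIso (CommRingCat.of (AddMonoidAlgebra (∀ i, D i) (ℤ × ℤ)))).inv F) := by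
    rw [show (Scheme.ΓSpecIso (CommRingCat.of (AddMonoidAlgebra (∀ i, D i) (ℤ × ℤ)))).inv F =
      Red.gmFn (g ≫ u) from congr($((Scheme.ΓSpecIso (CommRingCat.of
        (AddMonoidAlgebra (∀ i, D i) (ℤ × ℤ)))).hom_inv_id) (Red.gmFn (g ≫ u))),
      ← Gm.gmFn_comp, ← Category.assoc, heg, Category.id_comp]
  have ev : ∀ (q q' : tor h ℤ ⟶ Red.Gm X) (π : ℤ × ℤ →+ ℤ),
      Red.gmFn q = (mono' h ℤ (Multiplicative.ofAdd (π (1, 0))) : Γ((tor h ℤ).left, ⊤)) →
      Red.gmFn q' = (mono' h ℤ (Multiplicative.ofAdd (π (0, 1))) : Γ((tor h ℤ).left, ⊤)) →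
      Red.gmFn (pair (torπ h ℤ) (lift q q') ≫ u) =
        (Scheme.ΓSpecIso (CommRingCat.of (AddMonoidAlgebra (∀ i, D i) ℤ))).inv
          (AddMonoidAlgebra.mapDomainRingHom _ π F) := by
    intro q q' π hq hq'
    rw [Gm.gmFn_comp, hu]
    refine RingHom.congr_fun (f := ((pair (torπ h ℤ) (lift q q')).left.appTop.hom.comp
      (toTor (pr₁ (Red.Gm X ⊗ Red.Gm X) (Over.mk h)) χ).left.appTop.hom).comp
        (Scheme.ΓSpecIso (CommRingCat.of (AddMonoidAlgebra (∀ i, D i) (ℤ × ℤ)))).inv.hom)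
      (g := (Scheme.ΓSpecIso (CommRingCat.of (AddMonoidAlgebra (∀ i, D i) ℤ))).inv.hom.comp
        (AddMonoidAlgebra.mapDomainRingHom _ π)) ?_ F
    have hs : ∀ (m : ℤ × ℤ) (c : ∀ i, D i),
        (pair (torπ h ℤ) (lift q q')).left.appTop ((toTor (pr₁ _ _) χ).left.appTop
          ((Scheme.ΓSpecIso (CommRingCat.of (AddMonoidAlgebra (∀ i, D i) (ℤ × ℤ)))).inv
            (AddMonoidAlgebra.single m c))) =
        (Scheme.ΓSpecIso (CommRingCat.of (AddMonoidAlgebra (∀ i, D i) ℤ))).inv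
          (AddMonoidAlgebra.single (π m) c) := by
      rintro ⟨a, b⟩ c
      rw [toTor_appTop, map_mul, cst_natural, pair_pr₁, cst_tor,
        show χ (Multiplicative.ofAdd (a, b)) = x ^ a * y ^ b from rfl, Units.val_mul, map_mul,
        units_map_zpow _ _ (mono' h ℤ (Multiplicative.ofAdd (π (1, 0)))) ?_ a,
        units_map_zpow _ _ (mono' h ℤ (Multiplicative.ofAdd (π (0, 1)))) ?_ b]
      · rw [← Units.val_mul, ← map_zpow (mono' h ℤ), ← map_zpow (mono' h ℤ), ← map_mul (mono' h ℤ),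
          ← ofAdd_zsmul, ← ofAdd_zsmul, ← ofAdd_add,
          show a • π (1, 0) + b • π (0, 1) = π (a, b) by rw [← map_zsmul, ← map_zsmul, ← map_add]; simp,
          mono'_val]
        refine (map_mul (Scheme.ΓSpecIso (CommRingCat.of (AddMonoidAlgebra (∀ i, D i) ℤ))).inv.hom
          _ _).symm.trans ?_
        rw [AddMonoidAlgebra.single_mul_single, zero_add, _root_.mul_one]
      · rw [IsUnit.unit_spec, ← Gm.gmFn_comp, pair_pr₂_assoc, lift_snd, hq']
      · rw [IsUnit.unit_spec, ← Gm.gmFn_comp, pair_pr₂_assoc, lift_fst, hq]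
    refine AddMonoidAlgebra.ringHom_ext (fun c => ?_) fun m => ?_
    · exact (hs 0 c).trans (congrArg
        (Scheme.ΓSpecIso (CommRingCat.of (AddMonoidAlgebra (∀ i, D i) ℤ))).inv.hom
        (AddMonoidAlgebra.mapDomain_single (f := π)).symm)
    · exact (hs m 1).trans (congrArg
        (Scheme.ΓSpecIso (CommRingCat.of (AddMonoidAlgebra (∀ i, D i) ℤ))).inv.hom
        (AddMonoidAlgebra.mapDomain_single (f := π)).symm)
  let τ := mono' h ℤ (Multiplicative.ofAdd (1 : ℤ))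
  let p : tor h ℤ ⟶ (Fn (Red.Gm X)).obj (Over.mk h) := pair (torπ h ℤ) (Gm.gmPt τ)
  have e1 : ∀ z : ℤ, z = 0 → Red.gmFn (1 : tor h ℤ ⟶ Red.Gm X) =
      (mono' h ℤ (Multiplicative.ofAdd z) : Γ((tor h ℤ).left, ⊤)) := fun z hz => by
    rw [hz, ofAdd_zero, map_one, Units.val_one, Gm.gmFn_one]
  have hinj := (Scheme.ΓSpecIso (CommRingCat.of (AddMonoidAlgebra (∀ i, D i) ℤ))).commRingCatIsoToRingEquiv.symm.injective
  have ha : AddMonoidAlgebra.mapDomainRingHom _ (AddMonoidHom.fst ℤ ℤ) F =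
      AddMonoidAlgebra.mapDomainRingHom _ (0 : ℤ × ℤ →+ ℤ) F := hinj <| by
    have hh := congrArg (fun q => Red.gmFn (p ≫ q)) h₁
    simp only [p, pair_fnMap_assoc, comp_lift, Category.comp_id, MonObj.comp_one] at hh
    rw [ev (Gm.gmPt τ) 1 (AddMonoidHom.fst ℤ ℤ) (Gm.gmFn_gmPt _) (e1 _ rfl),
      ev 1 1 0 (e1 _ rfl) (e1 _ rfl)] at hh
    exact hh
  have hb : AddMonoidAlgebra.mapDomainRingHom _ (AddMonoidHom.snd ℤ ℤ) F =
      AddMonoidAlgebra.mapDomainRingHom _ (0 : ℤ × ℤ →+ ℤ) F := hinj <| by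
    have hh := congrArg (fun q => Red.gmFn (p ≫ q)) h₂
    simp only [p, pair_fnMap_assoc, comp_lift, Category.comp_id, MonObj.comp_one] at hh
    rw [ev 1 (Gm.gmPt τ) (AddMonoidHom.snd ℤ ℤ) (e1 _ rfl) (Gm.gmFn_gmPt _),
      ev 1 1 0 (e1 _ rfl) (e1 _ rfl)] at hh
    exact hh
  have hF := eq_single_of_axes D F hFu ha hb
  have hc : IsUnit (F.coeff 0) := by
    rw [hF] at hFu
    have h2 := hFu.map (AddMonoidAlgebra.liftNCRingHom (RingHom.id (∀ i, D i))
      (1 : Multiplicative (ℤ × ℤ) →* (∀ i, D i)) fun _ _ => mul_comm _ _)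
    simpa [AddMonoidAlgebra.liftNCRingHom] using h2
  refine ⟨Gm.gmPt (X := Over.mk h) (hc.map (cst (𝟙 (Over.mk h)))).unit, Gm.gmFn_injective ?_⟩
  rw [Gm.gmFn_comp, Gm.gmFn_gmPt, hu, IsUnit.unit_spec, cst_natural, Category.comp_id]
  rw [congrArg (fun G => (toTor (pr₁ (Red.Gm X ⊗ Red.Gm X) (Over.mk h)) χ).left.appTop
    ((Scheme.ΓSpecIso (CommRingCat.of (AddMonoidAlgebra (∀ i, D i) (ℤ × ℤ)))).inv G)) hF, toTor_appTop]
  simp

variable [∀ i, IsPrincipalIdealRing (D i)]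

/-- `H^1(A, Hom(G_m, G_m)) = 0` for a product `A` of principal ideal domains. -/
theorem subsingleton_HU_dual_Gm_pi :
    Subsingleton (BigSite.HU Scheme.fppfPrecoverage
      (Dual.H (Red.Gm X) (CGrpSh.pts Scheme.fppfPrecoverage (Red.Gm X))) 1 (Over.mk h)) := by
  refine HU_dual_of_axes (Red.Gm X) (Over.mk h)
    (@Function.Injective.subsingleton _ _ _ ((extFunctorObj _ 1).mapIso
      (pullGmIso ((Fn (Red.Gm X)).obj (Over.mk h)).hom)).addCommGroupIsoToAddEquiv.injective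
      (subsingleton_H1_GmF fun L hL => ?_))
    (const_of_axes_pi D)
  let R := AddMonoidAlgebra (∀ i, D i) ℤ
  let θ : ((Fn (Red.Gm X)).obj (Over.mk h)).left ≅ Spec (CommRingCat.of R) :=
    (Over.forget X).mapIso (gmTorIso h)
  obtain ⟨M, hM, ⟨i⟩⟩ := Pic85.exists_tilde ((Scheme.Modules.pullback θ.inv).obj L)
    (PicLoc.isInvertible_pullback θ.inv hL)
  haveI : Module.Invertible R M := Pic85.moduleInvertible_of_sheaf M hM
  obtain ⟨eM⟩ := ProdPic.free_laurent_pi D M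
  let e : (Scheme.Modules.pullback θ.inv).obj L ≅ Coh.structureModule (Spec (CommRingCat.of R)) :=
    i.symm ≪≫ (tilde.functor (CommRingCat.of R)).mapIso
      (LinearEquiv.toModuleIso (R := R) (X₁ := M) (X₂ := R) eM) ≪≫ tildeSelf
  exact ⟨((Scheme.Modules.pullbackId _).app L).symm ≪≫
    ((Scheme.Modules.pullbackCongr θ.hom_inv_id).app L).symm ≪≫
    ((Scheme.Modules.pullbackComp θ.hom θ.inv).app L).symm ≪≫
    (Scheme.Modules.pullback θ.hom).mapIso e ≪≫ PicLoc.pullbackStructureIso θ.hom⟩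

end Groth.Agent.Lib.DualGm86.Torus
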