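import Groth.Agent.Lib.GaGmExt.Dual

/-!
# `H^1` of a direct image
-/

set_option autoImplicit false
set_option maxHeartbeats 800000
set_option backward.isDefEq.respectTransparency.types false

universe u

open CategoryTheory CategoryTheory.Limits AlgebraicGeometry Opposite CategoryTheory.Abelian

noncomputable section

namespace Groth.Agent.Lib.DualGm86

open Groth.Agent.Lib.GaGmExt

/-- If `H^1(X', F) = 0` then `H^1(X, f_* F) = 0`. -/
theorem subsingleton_H1_push {X X' : Scheme.{u}} (f : X' ⟶ X)
    (F : BigSite.Ab Scheme.fppfPrecoverage X')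
    (h : Subsingleton (BigSite.H Scheme.fppfPrecoverage X' F 1)) :
    Subsingleton (BigSite.H Scheme.fppfPrecoverage X
      ((BigSite.pushBig Scheme.fppfPrecoverage f AddCommGrpCat.{u + 1}).obj F) 1) := by
  let P := BigSite.pushBig Scheme.fppfPrecoverage f AddCommGrpCat.{u + 1}
  let S : ShortComplex (BigSite.Ab Scheme.fppfPrecoverage X') :=
    ShortComplex.mk (Injective.ι F) (cokernel.π (Injective.ι F)) (cokernel.condition _)
  have hS : S.ShortExact :=
    { exact := ShortComplex.exact_of_g_is_cokernel _ (cokernelIsCokernel _)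
      mono_f := inferInstanceAs (Mono (Injective.ι F))
      epi_g := inferInstanceAs (Epi (cokernel.π (Injective.ι F))) }
  have : PreservesLimitsOfSize.{0, 0} P :=
    (BigSite.bigAdj Scheme.fppfPrecoverage f AddCommGrpCat.{u + 1}).rightAdjoint_preservesLimits
  have : PreservesFiniteLimits P := PreservesLimitsOfSize.preservesFiniteLimits _
  have : Mono S.f := hS.mono_f
  have : Injective (S.map P).X₂ :=
    Injective.injective_of_adjoint (BigSite.bigAdj Scheme.fppfPrecoverage f AddCommGrpCat.{u + 1})
      (Injective.under F)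
  have : Mono (S.map P).f := inferInstanceAs (Mono (P.map S.f))
  refine Shift.subsingleton_ext_of_exact (S := S.map P)
    (hS.exact.map_of_mono_of_preservesKernel P inferInstance inferInstance)
    (subsingleton_of_forall_eq 0 fun x => Ext.eq_zero_of_injective x) ?_
  let a : (Over.pullback f).obj (Over.mk (𝟙 X)) ≅ Over.mk (𝟙 X') :=
    Over.isoMk (asIso (pullback.snd (𝟙 X) f)) (Category.comp_id _)
  intro q
  obtain ⟨i, hi⟩ := Sect.surjective_top hS h (S.X₃.obj.map a.inv.op q)
  refine ⟨S.X₂.obj.map a.hom.op i, ?_⟩
  change S.g.hom.app (op ((Over.pullback f).obj (Over.mk (𝟙 X)))) _ = q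
  rw [NatTrans.naturality_apply]
  refine (congrArg (S.X₃.obj.map a.hom.op) hi).trans ?_
  rw [← ConcreteCategory.comp_apply, ← Functor.map_comp, ← op_comp, Iso.hom_inv_id, op_id,
    CategoryTheory.Functor.map_id]
  rfl

end Groth.Agent.Lib.DualGm86
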