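import Groth.Agent.Lib.DualGm86.LiftAt
import Groth.Agent.Lib.GaGmExt.Tower
import Groth.Agent.Lib.TorusUnits.Basic
import Mathlib.Algebra.Polynomial.Laurent

/-!
# `H^1` of the dual of `G_m` over the spectrum of a principal ideal domain
-/

set_option autoImplicit false
set_option maxHeartbeats 800000
set_option backward.isDefEq.respectTransparency.types false

universe u

open CategoryTheory CategoryTheory.Limits AlgebraicGeometry Opposite CategoryTheory.Abelian MonObj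
  MonoidalCategory CartesianMonoidalCategory

noncomputable section

namespace Groth.Agent.Lib.DualGm86.Torus

open Groth.Agent.Lib.RedPts Groth.Agent.Lib.GaGmExt Groth.Agent.Lib.GaGmExt.Shift
  Groth.Agent.Lib.GaGmExt.Sect Groth.Agent.Lib.TorusUnits.Basic Groth.Agent.Lib.DualGm86

variable {X : Scheme.{u}} {A : Type u} [CommRing A] {h : Spec (CommRingCat.of A) ⟶ X}
  {M : Type} [AddCommGroup M]

/-- Constant functions. -/
def cst {W : Over X} (q : W ⟶ Over.mk h) : A →+* Γ(W.left, ⊤) :=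
  (gam (R := CommRingCat.of A) q.left).hom

theorem cst_natural {W Z : Over X} (k : W ⟶ Z) (q : Z ⟶ Over.mk h) (c : A) :
    k.left.appTop (cst q c) = cst (k ≫ q) c :=
  (congr($(gam_comp (R := CommRingCat.of A) k.left q.left) c)).symm

variable (h M) in
/-- `Spec A[M]`. -/
def tor : Over X :=
  Over.mk (Y := Spec (CommRingCat.of (AddMonoidAlgebra A M)))
    (Spec.map (CommRingCat.ofHom AddMonoidAlgebra.singleZeroRingHom) ≫ h)

variable (h M) in
/-- Its projection. -/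
def torπ : tor h M ⟶ Over.mk h :=
  Over.homMk (Spec.map (CommRingCat.ofHom AddMonoidAlgebra.singleZeroRingHom)) rfl

variable (h M) in
/-- Monomials. -/
def mono' : Multiplicative M →* Γ((tor h M).left, ⊤)ˣ :=
  ((Scheme.ΓSpecIso (CommRingCat.of (AddMonoidAlgebra A M))).inv.hom.toMonoidHom.comp
    (AddMonoidAlgebra.of A M)).toHomUnits

theorem mono'_val (m : M) : (mono' h M (Multiplicative.ofAdd m) : Γ((tor h M).left, ⊤)) =
    (Scheme.ΓSpecIso (CommRingCat.of (AddMonoidAlgebra A M))).inv (AddMonoidAlgebra.single m 1) := rfl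

theorem cst_tor (c : A) : cst (torπ h M) c =
    (Scheme.ΓSpecIso (CommRingCat.of (AddMonoidAlgebra A M))).inv (AddMonoidAlgebra.single 0 c) := by
  change gam (Spec.map (CommRingCat.ofHom (AddMonoidAlgebra.singleZeroRingHom (R := A) (M := M)))) c = _
  rw [gam_SpecMap]
  rfl

variable {W : Over X} (q : W ⟶ Over.mk h)

/-- The ring map of a character. -/
def charHom (χ : Multiplicative M →* Γ(W.left, ⊤)ˣ) :
    CommRingCat.of (AddMonoidAlgebra A M) ⟶ Γ(W.left, ⊤) :=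
  CommRingCat.ofHom (R := AddMonoidAlgebra A M)
    (AddMonoidAlgebra.liftNCRingHom (cst q) ((Units.coeHom _).comp χ) fun _ _ => mul_comm _ _)

theorem charHom_π (χ : Multiplicative M →* Γ(W.left, ⊤)ˣ) :
    (W.left.toSpecΓ ≫ Spec.map (charHom q χ)) ≫
      Spec.map (CommRingCat.ofHom AddMonoidAlgebra.singleZeroRingHom) = q.left := by
  apply gam_injective (R := CommRingCat.of A)
  rw [gam_comp_SpecMap, gam_toSpec]
  ext c
  change AddMonoidAlgebra.liftNC _ _ (AddMonoidAlgebra.single 0 c) = cst q c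
  simp

/-- The map to `Spec A[M]` given by a character. -/
def toTor (χ : Multiplicative M →* Γ(W.left, ⊤)ˣ) : W ⟶ tor h M :=
  Over.homMk (W.left.toSpecΓ ≫ Spec.map (charHom q χ)) (by
    change (W.left.toSpecΓ ≫ Spec.map (charHom q χ)) ≫ (Spec.map _ ≫ h) = _
    rw [← Category.assoc, charHom_π]
    exact Over.w q)

theorem toTor_π (χ : Multiplicative M →* Γ(W.left, ⊤)ˣ) : toTor q χ ≫ torπ h M = q :=
  Over.OverMorphism.ext (charHom_π q χ)

theorem toTor_appTop (χ : Multiplicative M →* Γ(W.left, ⊤)ˣ) (m : M) (c : A) :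
    (toTor q χ).left.appTop ((Scheme.ΓSpecIso (CommRingCat.of (AddMonoidAlgebra A M))).inv
      (AddMonoidAlgebra.single m c)) = cst q c * (χ (Multiplicative.ofAdd m) : Γ(W.left, ⊤)) := by
  refine Eq.trans (congr($(gam_toSpec (charHom q χ)) (AddMonoidAlgebra.single m c))) ?_
  exact AddMonoidAlgebra.liftNC_single (cst q).toAddMonoidHom ((Units.coeHom _).comp χ) m c

omit q in
/-- Maps into `Spec A[M]` are determined on the base and on monomials. -/
theorem toTor_ext {f g : W ⟶ tor h M} (hπ : f ≫ torπ h M = g ≫ torπ h M) (hm : ∀ m : M,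
    f.left.appTop (mono' h M (Multiplicative.ofAdd m) : Γ((tor h M).left, ⊤)) =
      g.left.appTop (mono' h M (Multiplicative.ofAdd m) : Γ((tor h M).left, ⊤))) : f = g := by
  apply Over.OverMorphism.ext
  refine gam_injective (R := CommRingCat.of (AddMonoidAlgebra A M)) ?_
  apply CommRingCat.hom_ext
  refine AddMonoidAlgebra.ringHom_ext (fun c => ?_) fun m => hm m
  have h1 := cst_natural f (torπ h M) c
  have h2 := cst_natural g (torπ h M) c
  rw [cst_tor, hπ] at h1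
  rw [cst_tor] at h2
  exact h1.trans h2.symm

theorem units_map_zpow {A B : CommRingCat.{u}} (φ : A ⟶ B) (x : Aˣ) (z : Bˣ)
    (h : φ (x : A) = (z : B)) (a : ℤ) : φ ((x ^ a : Aˣ) : A) = ((z ^ a : Bˣ) : B) := by
  have : Units.map φ.hom.toMonoidHom x = z := Units.ext h
  rw [← this, ← map_zpow]
  rfl

variable (h) in
/-- `G_m` over the base is the spectrum of Laurent polynomials. -/
def gmTorIso : (Fn (Red.Gm X)).obj (Over.mk h) ≅ tor h ℤ where
  hom := toTor (pr₁ _ _) (zpowersHom _ (Gm.isUnit_gmFn (pr₂ (Red.Gm X) (Over.mk h))).unit)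
  inv := pair (torπ h ℤ) (Gm.gmPt (mono' h ℤ (Multiplicative.ofAdd (1 : ℤ))))
  hom_inv_id := by
    refine hom_ext' (by rw [Category.assoc, pair_pr₁, toTor_π, Category.id_comp]) ?_
    rw [Category.assoc, pair_pr₂, Category.id_comp]
    apply Gm.gmFn_injective
    rw [Gm.gmFn_comp, Gm.gmFn_gmPt, mono'_val, toTor_appTop]
    simp
  inv_hom_id := by
    refine toTor_ext (by rw [Category.assoc, toTor_π, pair_pr₁, Category.id_comp]) fun m => ?_
    rw [Over.comp_left, Scheme.Hom.comp_appTop, CommRingCat.comp_apply, mono'_val, toTor_appTop,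
      map_mul, cst_natural, zpowersHom_apply, toAdd_ofAdd,
      units_map_zpow _ _ (mono' h ℤ (Multiplicative.ofAdd (1 : ℤ))) ?_ m]
    · rw [← map_zpow, ← ofAdd_zsmul]
      simp [mono'_val]
    · rw [IsUnit.unit_spec, ← Gm.gmFn_comp, pair_pr₂, Gm.gmFn_gmPt]

variable [IsDomain A]

variable (h) in
/-- Units on `G_m × G_m` are monomials. -/
theorem exists_monomial (u : (Fn (Red.Gm X ⊗ Red.Gm X)).obj (Over.mk h) ⟶ Red.Gm X) :
    ∃ (c : A) (a b : ℤ), IsUnit c ∧ Red.gmFn u = cst (pr₁ (Red.Gm X ⊗ Red.Gm X) (Over.mk h)) c *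
      (((Gm.isUnit_gmFn (pr₂ (Red.Gm X ⊗ Red.Gm X) (Over.mk h) ≫ fst (Red.Gm X) (Red.Gm X))).unit ^ a *
        (Gm.isUnit_gmFn (pr₂ (Red.Gm X ⊗ Red.Gm X) (Over.mk h) ≫ snd (Red.Gm X) (Red.Gm X))).unit ^ b :
          Γ(((Fn (Red.Gm X ⊗ Red.Gm X)).obj (Over.mk h)).left, ⊤)ˣ) :
        Γ(((Fn (Red.Gm X ⊗ Red.Gm X)).obj (Over.mk h)).left, ⊤)) := by
  let x := (Gm.isUnit_gmFn (pr₂ (Red.Gm X ⊗ Red.Gm X) (Over.mk h) ≫ fst (Red.Gm X) (Red.Gm X))).unit
  let y := (Gm.isUnit_gmFn (pr₂ (Red.Gm X ⊗ Red.Gm X) (Over.mk h) ≫ snd (Red.Gm X) (Red.Gm X))).unit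
  let χ : Multiplicative (ℤ × ℤ) →* Γ(((Fn (Red.Gm X ⊗ Red.Gm X)).obj (Over.mk h)).left, ⊤)ˣ :=
    MonoidHom.mk' (fun p => x ^ p.toAdd.1 * y ^ p.toAdd.2) fun p q => by
      simp only [toAdd_mul, Prod.fst_add, Prod.snd_add, zpow_add]
      rw [_root_.mul_mul_mul_comm]
  let g : tor h (ℤ × ℤ) ⟶ (Fn (Red.Gm X ⊗ Red.Gm X)).obj (Over.mk h) :=
    pair (torπ h _) (lift (Gm.gmPt (mono' h _ (Multiplicative.ofAdd ((1, 0) : ℤ × ℤ))))
      (Gm.gmPt (mono' h _ (Multiplicative.ofAdd ((0, 1) : ℤ × ℤ)))))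
  have heg : toTor (pr₁ _ _) χ ≫ g = 𝟙 _ := by
    refine hom_ext' (by rw [Category.assoc, pair_pr₁, toTor_π, Category.id_comp]) ?_
    rw [Category.assoc, pair_pr₂, Category.id_comp]
    apply CartesianMonoidalCategory.hom_ext
    · rw [Category.assoc, lift_fst]
      apply Gm.gmFn_injective
      rw [Gm.gmFn_comp, Gm.gmFn_gmPt, mono'_val, toTor_appTop]
      simp [χ, x]
    · rw [Category.assoc, lift_snd]
      apply Gm.gmFn_injective
      rw [Gm.gmFn_comp, Gm.gmFn_gmPt, mono'_val, toTor_appTop]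
      simp [χ, y]
  have hun := (Gm.isUnit_gmFn (g ≫ u)).map (Scheme.ΓSpecIso (CommRingCat.of
      (AddMonoidAlgebra A (ℤ × ℤ)))).hom.hom
  obtain ⟨⟨a, b⟩, c, hc⟩ := exists_eq_single_of_isUnit hun
  refine ⟨c, a, b, ?_, ?_⟩
  · rw [hc] at hun
    have h2 := hun.map (AddMonoidAlgebra.liftNCRingHom (RingHom.id A)
      (1 : Multiplicative (ℤ × ℤ) →* A) fun _ _ => mul_comm _ _)
    simpa [AddMonoidAlgebra.liftNCRingHom] using h2
  have hgu : Red.gmFn (g ≫ u) = (Scheme.ΓSpecIso (CommRingCat.of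
      (AddMonoidAlgebra A (ℤ × ℤ)))).inv (AddMonoidAlgebra.single (a, b) c) := by
    rw [← hc]
    exact (congr($((Scheme.ΓSpecIso (CommRingCat.of
      (AddMonoidAlgebra A (ℤ × ℤ)))).hom_inv_id) (Red.gmFn (g ≫ u)))).symm
  have hu : Red.gmFn u = (toTor (pr₁ _ _) χ).left.appTop (Red.gmFn (g ≫ u)) := by
    rw [← Gm.gmFn_comp, ← Category.assoc, heg, Category.id_comp]
  rw [hu, hgu, toTor_appTop]
  rfl

variable (h) in
/-- Units constant on both axes come from the base. -/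
theorem const_of_axes (u : (Fn (Red.Gm X ⊗ Red.Gm X)).obj (Over.mk h) ⟶ Red.Gm X)
    (h₁ : fnMap (lift (𝟙 (Red.Gm X)) 1) (Over.mk h) ≫ u = fnMap (lift 1 1) (Over.mk h) ≫ u)
    (h₂ : fnMap (lift 1 (𝟙 (Red.Gm X))) (Over.mk h) ≫ u = fnMap (lift 1 1) (Over.mk h) ≫ u) :
    ∃ v : Over.mk h ⟶ Red.Gm X, pr₁ (Red.Gm X ⊗ Red.Gm X) (Over.mk h) ≫ v = u := by
  obtain ⟨c, a, b, hc, hu⟩ := exists_monomial h u
  have hc0 := hc.ne_zero
  let τ := mono' h ℤ (Multiplicative.ofAdd (1 : ℤ))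
  let p : tor h ℤ ⟶ (Fn (Red.Gm X)).obj (Over.mk h) := pair (torπ h ℤ) (Gm.gmPt τ)
  have ev : ∀ (q q' : tor h ℤ ⟶ Red.Gm X) (z z' : Γ((tor h ℤ).left, ⊤)ˣ),
      Red.gmFn q = z → Red.gmFn q' = z' → Red.gmFn (pair (torπ h ℤ) (lift q q') ≫ u) =
      cst (torπ h ℤ) c * ((z ^ a : Γ((tor h ℤ).left, ⊤)ˣ) * (z' ^ b : Γ((tor h ℤ).left, ⊤)ˣ)) := by
    intro q q' z z' hz hz'
    rw [Gm.gmFn_comp, hu, Units.val_mul, map_mul, map_mul, cst_natural, pair_pr₁,
      units_map_zpow _ _ z ?_ a, units_map_zpow _ _ z' ?_ b]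
    · rw [IsUnit.unit_spec, ← Gm.gmFn_comp, pair_pr₂_assoc, lift_snd, hz']
    · rw [IsUnit.unit_spec, ← Gm.gmFn_comp, pair_pr₂_assoc, lift_fst, hz]
  have hconst : Red.gmFn (pair (torπ h ℤ) (lift (1 : tor h ℤ ⟶ Red.Gm X) 1) ≫ u) =
      cst (torπ h ℤ) c := by
    rw [ev 1 1 1 1 (by rw [Gm.gmFn_one]; rfl) (by rw [Gm.gmFn_one]; rfl)]
    simp
  have hexp : ∀ n : ℤ, cst (torπ h ℤ) c * ((τ ^ n : Γ((tor h ℤ).left, ⊤)ˣ) : Γ((tor h ℤ).left, ⊤)) =
      cst (torπ h ℤ) c → n = 0 := by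
    intro n hn
    have hp : ((τ ^ n : Γ((tor h ℤ).left, ⊤)ˣ) : Γ((tor h ℤ).left, ⊤)) =
        (Scheme.ΓSpecIso (CommRingCat.of (AddMonoidAlgebra A ℤ))).inv
          (AddMonoidAlgebra.single n 1) := by
      rw [← map_zpow, ← ofAdd_zsmul, mono'_val]
      simp
    rw [hp, cst_tor] at hn
    replace hn := (map_mul (Scheme.ΓSpecIso (CommRingCat.of (AddMonoidAlgebra A ℤ))).inv.hom
      (AddMonoidAlgebra.single 0 c) (AddMonoidAlgebra.single n 1)).trans hn
    rw [AddMonoidAlgebra.single_mul_single] at hn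
    have := (Scheme.ΓSpecIso (CommRingCat.of (AddMonoidAlgebra A ℤ))).commRingCatIsoToRingEquiv.symm.injective hn
    have h2 := congrArg AddMonoidAlgebra.coeff this
    rw [AddMonoidAlgebra.coeff_single, AddMonoidAlgebra.coeff_single,
      Finsupp.single_eq_single_iff, zero_add, _root_.mul_one] at h2
    exact h2.elim (fun h => h.1) fun h => absurd h.1 hc0
  have ha : a = 0 := hexp a <| by
    have hh := congrArg (fun q => Red.gmFn (p ≫ q)) h₁
    simp only [p, pair_fnMap_assoc, comp_lift, Category.comp_id, MonObj.comp_one] at hh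
    rw [hconst, ev (Gm.gmPt τ) 1 τ 1 (Gm.gmFn_gmPt _) (by rw [Gm.gmFn_one]; rfl)] at hh
    simpa using hh
  have hb : b = 0 := hexp b <| by
    have hh := congrArg (fun q => Red.gmFn (p ≫ q)) h₂
    simp only [p, pair_fnMap_assoc, comp_lift, Category.comp_id, MonObj.comp_one] at hh
    rw [hconst, ev 1 (Gm.gmPt τ) 1 τ (by rw [Gm.gmFn_one]; rfl) (Gm.gmFn_gmPt _)] at hh
    simpa using hh
  refine ⟨Gm.gmPt (X := Over.mk h) (hc.map (cst (𝟙 (Over.mk h)))).unit, Gm.gmFn_injective ?_⟩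
  rw [Gm.gmFn_comp, Gm.gmFn_gmPt, hu, ha, hb, IsUnit.unit_spec, cst_natural, Category.comp_id]
  simp

variable [IsPrincipalIdealRing A]

variable (h) in
/-- Invertible modules on `G_m` over a principal ideal domain are trivial. -/
theorem pic_Gm (L : ((Fn (Red.Gm X)).obj (Over.mk h)).left.Modules) (hL : PicF.IsInvertible L) :
    Nonempty (L ≅ Coh.structureModule ((Fn (Red.Gm X)).obj (Over.mk h)).left) := by
  let j : Spec (CommRingCat.of (LaurentPolynomial A)) ⟶ Spec (CommRingCat.of (Polynomial A)) :=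
    Spec.map (CommRingCat.ofHom (algebraMap (Polynomial A) (LaurentPolynomial A)))
  haveI : IsOpenImmersion j :=
    IsOpenImmersion.of_isLocalization (S := LaurentPolynomial A) (Polynomial.X : Polynomial A)
  let θ : ((Fn (Red.Gm X)).obj (Over.mk h)).left ≅ (j.opensRange : Scheme.{u}) :=
    (Over.forget X).mapIso (gmTorIso h) ≪≫ j.isoOpensRange
  obtain ⟨e⟩ := PicGen.OpenUFD.nonempty_iso j.opensRange
    ((Scheme.Modules.pullback θ.inv).obj L) (PicLoc.isInvertible_pullback θ.inv hL)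
  exact ⟨((Scheme.Modules.pullbackId _).app L).symm ≪≫
    ((Scheme.Modules.pullbackCongr θ.hom_inv_id).app L).symm ≪≫
    ((Scheme.Modules.pullbackComp θ.hom θ.inv).app L).symm ≪≫
    (Scheme.Modules.pullback θ.hom).mapIso e ≪≫ PicLoc.pullbackStructureIso θ.hom⟩

variable (h) in
/-- `H^1(A, Hom(G_m, G_m)) = 0` for a principal ideal domain `A`. -/
theorem subsingleton_HU_dual_Gm :
    Subsingleton (BigSite.HU Scheme.fppfPrecoverage
      (Dual.H (Red.Gm X) (CGrpSh.pts Scheme.fppfPrecoverage (Red.Gm X))) 1 (Over.mk h)) :=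
  HU_dual_of_axes (Red.Gm X) (Over.mk h)
    (@Function.Injective.subsingleton _ _ _ ((extFunctorObj _ 1).mapIso
      (pullGmIso ((Fn (Red.Gm X)).obj (Over.mk h)).hom)).addCommGroupIsoToAddEquiv.injective
      (subsingleton_H1_GmF (pic_Gm h)))
    (const_of_axes h)

end Groth.Agent.Lib.DualGm86.Torus
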